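import Groth.Agent.Lefpen.H718.Minor
import Mathlib.LinearAlgebra.Matrix.Rank
import Mathlib.RingTheory.Ideal.MinimalPrime.Noetherian
import Mathlib.RingTheory.LocalRing.ResidueField.Ideal
import Mathlib.RingTheory.Spectrum.Prime.Basic
import Mathlib.Data.Finset.Max

/-!
# Basic elements (Serre, Bass, Eisenbud–Evans) for vectors over a Noetherian ring

`rk p v`: dimension of the span over `κ(p)` of a family of vectors `v : Fin u → Fin N → R`.

* `exists_minorIdeal`: the condition `t ≤ rk p v` is open.
* `exists_basic`: if `min (u + 1) (δ p + 1) ≤ rk p v` for all `p` in a generization-stable set `X` of primes, `δ` a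
  strictly decreasing function, then some `v 0 + ∑_{i > 0} c i • v i` is nonzero in `κ(p)^N` for all `p ∈ X`.
-/

set_option autoImplicit false
universe u w

namespace K95.BasicElt

open Module

section Field

variable {K : Type*} [Field K] {V : Type*} [AddCommGroup V] [Module K V]

/-- Moving along `w last`: if the vectors `w i + α i • w last` do not span the span of all `w`, a small change at one
index does. -/
theorem exists_move [FiniteDimensional K V] {u : ℕ} (w : Fin (u + 1) → V) (α : Fin u → K)
    (h : finrank K (Submodule.span K (Set.range w)) ≤ u) :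
    finrank K (Submodule.span K (Set.range w)) ≤
        finrank K (Submodule.span K (Set.range fun i : Fin u => w i.castSucc + α i • w (Fin.last u))) ∨
      ∃ i₀ : Fin u, ∀ β : K, β ≠ 0 → finrank K (Submodule.span K (Set.range w)) ≤
        finrank K (Submodule.span K (Set.range fun i : Fin u =>
          w i.castSucc + (α i + if i = i₀ then β else 0) • w (Fin.last u))) := by
  classical
  by_cases hli : LinearIndependent K (fun i : Fin u => w i.castSucc + α i • w (Fin.last u))
  · left
    rw [finrank_span_eq_card hli, Fintype.card_fin]
    exact h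
  · right
    rw [Fintype.not_linearIndependent_iff] at hli
    obtain ⟨c, hc, i₀, hi₀⟩ := hli
    refine ⟨i₀, fun β hβ => ?_⟩
    set W' := Submodule.span K (Set.range fun i : Fin u =>
          w i.castSucc + (α i + if i = i₀ then β else 0) • w (Fin.last u)) with hW'
    have hlast : w (Fin.last u) ∈ W' := by
      have h1 : ∑ i, c i • (w i.castSucc + (α i + if i = i₀ then β else 0) • w (Fin.last u)) =
          (c i₀ * β) • w (Fin.last u) := by
        have h2 : ∀ i, c i • (w i.castSucc + (α i + if i = i₀ then β else 0) • w (Fin.last u)) =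
            c i • (w i.castSucc + α i • w (Fin.last u)) + (if i = i₀ then (c i * β) • w (Fin.last u) else 0) := by
          intro i
          split_ifs with hi
          · rw [add_smul, ← add_assoc, smul_add, smul_smul (c i) β]
          · rw [add_zero, add_zero]
        rw [Finset.sum_congr rfl (fun i _ => h2 i), Finset.sum_add_distrib, hc, zero_add, Finset.sum_ite_eq' Finset.univ i₀]
        simp
      have h3 : (c i₀ * β) • w (Fin.last u) ∈ W' := by
        rw [← h1]
        exact Submodule.sum_mem _ fun i _ => Submodule.smul_mem _ _ (Submodule.subset_span ⟨i, rfl⟩)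
      exact (Submodule.smul_mem_iff _ (mul_ne_zero hi₀ hβ)).1 h3
    apply Submodule.finrank_mono
    rw [Submodule.span_le]
    rintro _ ⟨j, rfl⟩
    refine Fin.lastCases ?_ (fun i => ?_) j
    · exact hlast
    · have h4 : w i.castSucc + (α i + if i = i₀ then β else 0) • w (Fin.last u) ∈ W' := Submodule.subset_span ⟨i, rfl⟩
      have h5 := W'.sub_mem h4 (W'.smul_mem (α i + if i = i₀ then β else 0) hlast)
      rwa [add_sub_cancel_right] at h5

/-- Dropping the last vector loses at most one. -/
theorem finrank_le_succ [FiniteDimensional K V] {u : ℕ} (w : Fin (u + 1) → V) (α : Fin u → K) :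
    finrank K (Submodule.span K (Set.range w)) ≤
        finrank K (Submodule.span K (Set.range fun i : Fin u => w i.castSucc + α i • w (Fin.last u))) + 1 := by
  set W' := Submodule.span K (Set.range fun i : Fin u => w i.castSucc + α i • w (Fin.last u)) with hW'
  have h1 : Submodule.span K (Set.range w) ≤ W' ⊔ Submodule.span K {w (Fin.last u)} := by
    rw [Submodule.span_le]
    rintro _ ⟨j, rfl⟩
    have hlast : w (Fin.last u) ∈ W' ⊔ Submodule.span K {w (Fin.last u)} :=
      Submodule.mem_sup_right (Submodule.mem_span_singleton_self _)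
    refine Fin.lastCases hlast (fun i => ?_) j
    have h4 : w i.castSucc + α i • w (Fin.last u) ∈ W' ⊔ Submodule.span K {w (Fin.last u)} :=
      Submodule.mem_sup_left (Submodule.subset_span ⟨i, rfl⟩)
    have h5 := Submodule.sub_mem _ h4 (Submodule.smul_mem _ (α i) hlast)
    rwa [add_sub_cancel_right] at h5
  refine (Submodule.finrank_mono h1).trans ?_
  refine (Submodule.finrank_add_le_finrank_add_finrank _ _).trans ?_
  exact Nat.add_le_add_left ((finrank_span_le_card _).trans (by simp)) _

end Field

variable {R : Type u} [CommRing R]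

/-- reduction of a vector modulo `p`. -/
noncomputable def red (p : PrimeSpectrum R) {N : ℕ} (x : Fin N → R) : Fin N → p.asIdeal.ResidueField :=
  fun j => algebraMap R p.asIdeal.ResidueField (x j)

theorem red_add (p : PrimeSpectrum R) {N : ℕ} (x y : Fin N → R) : red p (x + y) = red p x + red p y := by
  funext j; simp [red]

theorem red_smul (p : PrimeSpectrum R) {N : ℕ} (a : R) (x : Fin N → R) :
    red p (a • x) = algebraMap R p.asIdeal.ResidueField a • red p x := by
  funext j; simp [red]

theorem red_eq_zero_iff (p : PrimeSpectrum R) {N : ℕ} (x : Fin N → R) : red p x = 0 ↔ ∀ j, x j ∈ p.asIdeal := by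
  constructor
  · intro h j
    have := congrFun h j
    exact Ideal.algebraMap_residueField_eq_zero.1 this
  · intro h
    funext j
    exact Ideal.algebraMap_residueField_eq_zero.2 (h j)

/-- dimension of the span of a family of vectors at `p`. -/
noncomputable def rk (p : PrimeSpectrum R) {N u : ℕ} (v : Fin u → Fin N → R) : ℕ :=
  finrank p.asIdeal.ResidueField (Submodule.span p.asIdeal.ResidueField (Set.range fun i => red p (v i)))

/-- The condition `t ≤ rk p v` is the complement of a closed subset. -/
theorem exists_minorIdeal {N u : ℕ} (v : Fin u → Fin N → R) (t : ℕ) :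
    ∃ I : Ideal R, ∀ p : PrimeSpectrum R, t ≤ rk p v ↔ ¬ I ≤ p.asIdeal := by
  classical
  let M : Matrix (Fin N) (Fin u) R := Matrix.of fun j i => v i j
  refine ⟨Ideal.span (Set.range fun fg : (Fin t → Fin N) × (Fin t → Fin u) => (M.submatrix fg.1 fg.2).det), fun p => ?_⟩
  rw [Ideal.span_le]
  have hM : ∀ (f : Fin t → Fin N) (g : Fin t → Fin u), algebraMap R p.asIdeal.ResidueField (M.submatrix f g).det =
      ((M.map (algebraMap R p.asIdeal.ResidueField)).submatrix f g).det := by
    intro f g
    rw [RingHom.map_det]
    rfl
  constructor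
  · intro h hle
    obtain ⟨f, hf, hspan, hli⟩ := Submodule.exists_fun_fin_finrank_span_eq p.asIdeal.ResidueField
      (Set.range fun i => red p (v i))
    let ι : Fin t → Fin (finrank p.asIdeal.ResidueField (Submodule.span p.asIdeal.ResidueField
      (Set.range fun i => red p (v i)))) := Fin.castLE h
    have hι : Function.Injective ι := Fin.castLE_injective h
    choose g hg using fun i : Fin t => hf (ι i)
    have hli' : LinearIndependent p.asIdeal.ResidueField (fun i : Fin t => red p (v (g i))) := by
      have h1 := hli.comp ι hι
      have h2 : (fun i : Fin t => red p (v (g i))) = f ∘ ι := funext hg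
      rw [h2]
      exact h1
    let M' : Matrix (Fin t) (Fin N) p.asIdeal.ResidueField := Matrix.of fun i j => red p (v (g i)) j
    obtain ⟨σ, hσ⟩ := Groth.Agent.Lefpen.H718.Minor.exists_minor M' hli'
    apply hσ
    have h2 : (M'.submatrix id σ).det = algebraMap R p.asIdeal.ResidueField (M.submatrix σ g).det := by
      rw [hM, ← Matrix.det_transpose]
      rfl
    rw [h2]
    exact Ideal.algebraMap_residueField_eq_zero.2 (hle ⟨(σ, g), rfl⟩)
  · intro h
    rw [Set.not_subset] at h
    obtain ⟨_, ⟨⟨f, g⟩, rfl⟩, h2⟩ := h
    have h3 : ((M.map (algebraMap R p.asIdeal.ResidueField)).submatrix f g).det ≠ 0 := by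
      rw [← hM]
      intro h0
      exact h2 (Ideal.algebraMap_residueField_eq_zero.1 h0)
    have h4 := Matrix.rank_of_det_ne_zero h3
    have h5 := Matrix.rank_submatrix_le (M.map (algebraMap R p.asIdeal.ResidueField)) f g
    rw [h4, Fintype.card_fin, Matrix.rank_eq_finrank_span_cols] at h5
    exact h5

/-- Simultaneous move at finitely many primes. -/
theorem exists_move_finset {δ : PrimeSpectrum R → ℕ} (hδ : ∀ p q : PrimeSpectrum R, p < q → δ q < δ p)
    {N u : ℕ} (v : Fin (u + 1) → Fin N → R) (S : Finset (PrimeSpectrum R)) (hS : ∀ p ∈ S, rk p v ≤ u) :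
    ∃ a : Fin u → R, ∀ p ∈ S, rk p v ≤ rk p (fun i : Fin u => v i.castSucc + a i • v (Fin.last u)) := by
  classical
  induction S using Finset.induction_on_max_value δ with
  | empty => exact ⟨0, by simp⟩
  | insert p S hpS hmax ih =>
    obtain ⟨a, ha⟩ := ih (fun q hq => hS q (Finset.mem_insert_of_mem hq))
    have hred : ∀ (q : PrimeSpectrum R) (b : Fin u → R), rk q (fun i : Fin u => v i.castSucc + b i • v (Fin.last u)) =
        finrank q.asIdeal.ResidueField (Submodule.span q.asIdeal.ResidueField (Set.range fun i : Fin u =>
          red q (v i.castSucc) + algebraMap R q.asIdeal.ResidueField (b i) • red q (v (Fin.last u)))) := by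
      intro q b
      unfold rk
      have h1 : (fun i : Fin u => red q (v i.castSucc + b i • v (Fin.last u))) = fun i : Fin u =>
          red q (v i.castSucc) + algebraMap R q.asIdeal.ResidueField (b i) • red q (v (Fin.last u)) := by
        funext i
        rw [red_add, red_smul]
      rw [h1]
    rcases exists_move (fun i => red p (v i)) (fun i => algebraMap R p.asIdeal.ResidueField (a i))
      (hS p (Finset.mem_insert_self _ _)) with h | ⟨i₀, h⟩
    · refine ⟨a, fun q hq => ?_⟩
      rcases Finset.mem_insert.1 hq with rfl | hq
      · rw [hred]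
        exact h
      · exact ha q hq
    · -- choose `b` in all `q ∈ S`, not in `p`
      have hb : ∃ b : R, b ∉ p.asIdeal ∧ ∀ q ∈ S, b ∈ q.asIdeal := by
        have h1 : ∀ q ∈ S, ∃ b ∈ q.asIdeal, b ∉ p.asIdeal := by
          intro q hq
          by_contra hcon
          push Not at hcon
          have hle : q ≤ p := hcon
          have hne : q ≠ p := by
            rintro rfl
            exact hpS hq
          have := hδ q p (lt_of_le_of_ne hle hne)
          have := hmax q hq
          omega
        choose! b hb hb' using h1
        refine ⟨∏ q ∈ S, b q, ?_, ?_⟩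
        · intro hm
          obtain ⟨q, hq, hq'⟩ := (p.2.prod_mem_iff).1 hm
          exact hb' q hq hq'
        · intro q hq
          exact Ideal.mem_of_dvd _ (Finset.dvd_prod_of_mem b hq) (hb q hq)
      obtain ⟨b, hbp, hbS⟩ := hb
      refine ⟨fun i => a i + if i = i₀ then b else 0, fun q hq => ?_⟩
      rcases Finset.mem_insert.1 hq with rfl | hq
      · rw [hred]
        have h2 := h (algebraMap R q.asIdeal.ResidueField b)
          (fun h0 => hbp (Ideal.algebraMap_residueField_eq_zero.1 h0))
        refine h2.trans (le_of_eq ?_)
        have h3 : (fun i : Fin u => red q (v i.castSucc) + (algebraMap R q.asIdeal.ResidueField (a i) +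
            if i = i₀ then algebraMap R q.asIdeal.ResidueField b else 0) • red q (v (Fin.last u))) =
            fun i : Fin u => red q (v i.castSucc) +
              algebraMap R q.asIdeal.ResidueField (a i + if i = i₀ then b else 0) • red q (v (Fin.last u)) := by
          funext i
          rw [map_add]
          split_ifs <;> simp
        rw [h3]
      · refine (ha q hq).trans (le_of_eq ?_)
        rw [hred, hred]
        have h3 : (fun i : Fin u => red q (v i.castSucc) + algebraMap R q.asIdeal.ResidueField (a i) •
            red q (v (Fin.last u))) = fun i : Fin u => red q (v i.castSucc) +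
              algebraMap R q.asIdeal.ResidueField (a i + if i = i₀ then b else 0) • red q (v (Fin.last u)) := by
          funext i
          rw [map_add]
          split_ifs
          · rw [Ideal.algebraMap_residueField_eq_zero.2 (hbS q hq), add_zero]
          · rw [map_zero, add_zero]
        rw [h3]

theorem rk_le_succ (p : PrimeSpectrum R) {N u : ℕ} (v : Fin (u + 1) → Fin N → R) (a : Fin u → R) :
    rk p v ≤ rk p (fun i : Fin u => v i.castSucc + a i • v (Fin.last u)) + 1 := by
  have := finrank_le_succ (fun i => red p (v i)) (fun i => algebraMap R p.asIdeal.ResidueField (a i))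
  unfold rk
  have h1 : (fun i : Fin u => red p (v i.castSucc + a i • v (Fin.last u))) = fun i : Fin u =>
      red p (v i.castSucc) + algebraMap R p.asIdeal.ResidueField (a i) • red p (v (Fin.last u)) := by
    funext i
    rw [red_add, red_smul]
  rw [h1]
  exact this

/-- The basic element theorem. -/
theorem exists_basic [IsNoetherianRing R] {δ : PrimeSpectrum R → ℕ}
    (hδ : ∀ p q : PrimeSpectrum R, p < q → δ q < δ p) (X : Set (PrimeSpectrum R))
    (hX : ∀ p ∈ X, ∀ q ≤ p, q ∈ X) {N u : ℕ} (v : Fin (u + 1) → Fin N → R)
    (hv : ∀ p ∈ X, min (u + 1) (δ p + 1) ≤ rk p v) :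
    ∃ c : Fin (u + 1) → R, c 0 = 1 ∧ ∀ p ∈ X, red p (∑ i, c i • v i) ≠ 0 := by
  classical
  induction u with
  | zero =>
    refine ⟨fun _ => 1, rfl, fun p hp h0 => ?_⟩
    have h1 : ∑ i : Fin 1, (1 : R) • v i = v 0 := by simp
    rw [h1] at h0
    have h2 := hv p hp
    have h3 : rk p v = 0 := by
      unfold rk
      have : Set.range (fun i => red p (v i)) = {0} := by
        ext x
        simp only [Set.mem_range, Set.mem_singleton_iff]
        constructor
        · rintro ⟨i, rfl⟩
          rw [show i = 0 from Fin.ext (by omega)]
          exact h0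
        · rintro rfl
          exact ⟨0, h0⟩
      rw [this, Submodule.span_zero_singleton]
      simp
    omega
  | succ u ih =>
    -- the trouble primes
    let T : Set (PrimeSpectrum R) := {p | p ∈ X ∧ rk p v = δ p + 1 ∧ rk p v ≤ u + 1}
    have hT : T.Finite := by
      choose I hI using fun t : ℕ => exists_minorIdeal v t
      have hsub : T ⊆ ⋃ t ∈ Finset.range (u + 2), {p : PrimeSpectrum R | p.asIdeal ∈ (I (t + 1)).minimalPrimes} := by
        rintro p ⟨hpX, hp1, hp2⟩
        simp only [Set.mem_iUnion]
        refine ⟨rk p v, Finset.mem_range.2 (by omega), ?_⟩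
        have hIp : I (rk p v + 1) ≤ p.asIdeal := by
          by_contra hc
          have := (hI (rk p v + 1) p).2 hc
          omega
        refine ⟨⟨p.2, hIp⟩, ?_⟩
        rintro q ⟨hq, hq'⟩ hqp
        let q' : PrimeSpectrum R := ⟨q, hq⟩
        have hq'p : q' ≤ p := hqp
        have h1 : rk q' v ≤ rk p v := by
          by_contra hc
          exact ((hI (rk p v + 1) q').1 (by omega)) hq'
        have h2 := hv q' (hX p hpX q' hq'p)
        by_contra hne
        have h3 : q' < p := lt_of_le_of_ne hq'p (fun h => hne (by rw [← h]))
        have h4 := hδ q' p h3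
        have : min (u + 1 + 1) (δ q' + 1) ≤ rk q' v := h2
        rw [min_le_iff] at this
        omega
      refine Set.Finite.subset ?_ hsub
      refine Set.Finite.biUnion (Finset.finite_toSet _) (fun t _ => ?_)
      have h1 := Ideal.finite_minimalPrimes_of_isNoetherianRing R (I (t + 1))
      exact Set.Finite.preimage (f := fun p : PrimeSpectrum R => p.asIdeal)
        (fun a _ b _ hab => PrimeSpectrum.ext hab) h1
    obtain ⟨a, ha⟩ := exists_move_finset hδ v hT.toFinset (fun p hp => by
      have := (hT.mem_toFinset).1 hp
      exact this.2.2)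
    obtain ⟨c, hc0, hc⟩ := ih (fun i : Fin (u + 1) => v i.castSucc + a i • v (Fin.last (u + 1))) (by
      intro p hp
      have h1 := hv p hp
      have h2 := rk_le_succ p v a
      rw [min_le_iff] at h1 ⊢
      by_cases h3 : rk p v ≤ u + 1
      · have h4 : δ p + 1 ≤ rk p v := by omega
        by_cases h5 : rk p v = δ p + 1
        · have h6 := ha p (hT.mem_toFinset.2 ⟨hp, h5, h3⟩)
          right
          omega
        · right
          omega
      · left
        omega)
    refine ⟨Fin.snoc c (∑ i, c i * a i), ?_, fun p hp => ?_⟩
    · have : (0 : Fin (u + 1 + 1)) = Fin.castSucc (0 : Fin (u + 1)) := rfl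
      rw [this, Fin.snoc_castSucc, hc0]
    · have h1 : ∑ i : Fin (u + 1 + 1), (Fin.snoc c (∑ i, c i * a i) : Fin (u + 1 + 1) → R) i • v i =
          ∑ i : Fin (u + 1), c i • (v i.castSucc + a i • v (Fin.last (u + 1))) := by
        rw [Fin.sum_univ_castSucc]
        simp only [Fin.snoc_castSucc, Fin.snoc_last, smul_add, Finset.sum_add_distrib, smul_smul]
        rw [Finset.sum_smul]
      rw [h1]
      exact hc p hp

end K95.BasicElt
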