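import Groth.Agent.Ega41.DimFlat
import Mathlib.RingTheory.RegularLocalRing.Defs
import Mathlib.RingTheory.Flat.FaithfullyFlat.Algebra

/-!
# Flat local homomorphisms `A → B` with `𝔪_A B = 𝔪_B`

They preserve the dimension and the embedding dimension, hence ascend and descend regularity.
-/

set_option autoImplicit false
universe u v

open IsLocalRing

namespace K95.FlatUnram

variable (A : Type u) (B : Type v) [CommRing A] [CommRing B] [IsLocalRing A] [IsLocalRing B] [IsNoetherianRing A]
  [IsNoetherianRing B] [Algebra A B] [IsLocalHom (algebraMap A B)] [Module.Flat A B]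

theorem ringKrullDim_eq (h : (maximalIdeal A).map (algebraMap A B) = maximalIdeal B) :
    ringKrullDim B = ringKrullDim A := by
  rw [Groth.Agent.Ega41.DimFlat.ringKrullDim_eq_add_of_flat (A := A) (B := B), h]
  let _ : Field (B ⧸ maximalIdeal B) := Ideal.Quotient.field _
  rw [ringKrullDim_eq_zero_of_field, add_zero]

theorem spanFinrank_eq (h : (maximalIdeal A).map (algebraMap A B) = maximalIdeal B) :
    (maximalIdeal B).spanFinrank = (maximalIdeal A).spanFinrank := by
  classical
  have hff : Module.FaithfullyFlat A B := Module.FaithfullyFlat.of_flat_of_isLocalHom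
  apply le_antisymm
  · obtain ⟨s, hs, hs'⟩ := Submodule.FG.exists_span_finset_card_eq_spanFinrank (IsNoetherian.noetherian (maximalIdeal A))
    have hs'' : Ideal.span (s : Set A) = maximalIdeal A := hs'
    have h1 : maximalIdeal B = Ideal.span ((s.image (algebraMap A B) : Finset B) : Set B) := by
      rw [← h, ← hs'', Finset.coe_image, Ideal.map_span]
    have h2 : (Ideal.span ((s.image (algebraMap A B) : Finset B) : Set B)).spanFinrank ≤
        (s.image (algebraMap A B)).card := by
      have := Submodule.spanFinrank_span_le_ncard_of_finite (R := B) (Finset.finite_toSet (s.image (algebraMap A B)))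
      rwa [Set.ncard_coe_finset] at this
    rw [h1, ← hs]
    exact h2.trans Finset.card_image_le
  · let S : Set (CotangentSpace B) := {v | ∃ (a : A) (ha : algebraMap A B a ∈ maximalIdeal B),
      a ∈ maximalIdeal A ∧ (maximalIdeal B).toCotangent ⟨algebraMap A B a, ha⟩ = v}
    obtain ⟨b, hbS, hbspan, hbli⟩ := exists_linearIndependent (ResidueField B) S
    have hfin : Finite b := hbli.finite
    have := Fintype.ofFinite b
    choose a ha haA hav using fun v : b => hbS v.2
    let J : Ideal A := Ideal.span (Set.range a)
    have hJ : J.map (algebraMap A B) = maximalIdeal B := by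
      apply le_antisymm
      · rw [← h]
        apply Ideal.map_mono
        rw [Ideal.span_le]
        rintro _ ⟨v, rfl⟩
        exact haA v
      · refine Submodule.le_of_le_smul_of_le_jacobson_bot (I := maximalIdeal B) (IsNoetherian.noetherian _)
          (by rw [IsLocalRing.jacobson_eq_maximalIdeal]; exact bot_ne_top) ?_
        conv_lhs => rw [← h]
        rw [Ideal.map_le_iff_le_comap]
        intro x hx
        have hxB : algebraMap A B x ∈ maximalIdeal B := by
          rw [← h]; exact Ideal.mem_map_of_mem _ hx
        have h2 : (maximalIdeal B).toCotangent ⟨algebraMap A B x, hxB⟩ ∈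
            Submodule.span (ResidueField B) (Set.range ((↑) : b → CotangentSpace B)) := by
          rw [Subtype.range_coe, hbspan]
          exact Submodule.subset_span ⟨x, hxB, hx, rfl⟩
        rw [Submodule.mem_span_range_iff_exists_fun] at h2
        obtain ⟨d, hd⟩ := h2
        choose c hc using fun i => residue_surjective (d i)
        have h3 : algebraMap A B x - ∑ i, c i * algebraMap A B (a i) ∈ maximalIdeal B ^ 2 := by
          have h1 : (maximalIdeal B).toCotangent (⟨algebraMap A B x, hxB⟩ - ∑ i, c i • ⟨algebraMap A B (a i), ha i⟩) = 0 := by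
            rw [map_sub, sub_eq_zero, ← hd, map_sum]
            refine Finset.sum_congr rfl fun i _ => ?_
            rw [map_smul, hav i, ← hc i]
            rfl
          rw [Ideal.toCotangent_eq_zero] at h1
          convert h1 using 1
          simp
        rw [Ideal.mem_comap, ← sub_add_cancel (algebraMap A B x) (∑ i, c i * algebraMap A B (a i)), add_comm]
        refine Submodule.add_mem_sup ?_ ?_
        · exact Ideal.sum_mem _ fun i _ => Ideal.mul_mem_left _ _ (Ideal.mem_map_of_mem _ (Ideal.subset_span ⟨i, rfl⟩))
        · rw [smul_eq_mul, ← pow_two]; exact h3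
    have hJm : J = maximalIdeal A := Ideal.map_injective_of_faithfullyFlat (hJ.trans h.symm)
    rw [← hJm]
    refine (Submodule.spanFinrank_span_le_ncard_of_finite (Set.finite_range a)).trans ?_
    rw [← Set.image_univ]
    refine (Set.ncard_image_le Set.finite_univ).trans ?_
    rw [Set.ncard_univ, Nat.card_eq_fintype_card]
    rw [IsLocalRing.spanFinrank_maximalIdeal_eq_finrank_cotangentSpace_of_fg (IsNoetherian.noetherian _)]
    exact hbli.fintype_card_le_finrank

theorem isRegularLocalRing_iff (h : (maximalIdeal A).map (algebraMap A B) = maximalIdeal B) :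
    IsRegularLocalRing A ↔ IsRegularLocalRing B := by
  rw [_root_.isRegularLocalRing_iff, _root_.isRegularLocalRing_iff, ringKrullDim_eq A B h, spanFinrank_eq A B h]

end K95.FlatUnram
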