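import Mathlib.RingTheory.HopkinsLevitzki
import Mathlib.RingTheory.Filtration
import Mathlib.RingTheory.Ideal.Quotient.Operations
import Mathlib.RingTheory.LocalRing.ResidueField.Basic
import Mathlib.RingTheory.LocalRing.RingHom.Basic

/-!
# Infinitesimal lifting against Artinian local rings and presentations

`P → A` a surjection of Noetherian local `k`-algebras with residue field `k`, kernel inside `𝔪_P²`; if `A` has the
infinitesimal lifting property against Artinian local `k`-algebras then the surjection is bijective.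
-/

set_option autoImplicit false
universe u

open IsLocalRing

namespace K95.LiftArt

/-- A surjective endomorphism of a Noetherian ring is injective. -/
theorem injective_of_surjective_endo {R : Type*} [CommRing R] [IsNoetherianRing R] (θ : R →+* R)
    (hθ : Function.Surjective θ) : Function.Injective θ := by
  let K : ℕ →o Ideal R := ⟨fun n => RingHom.ker (θ ^ n), monotone_nat_of_le_succ (fun n x hx => by
    rw [RingHom.mem_ker] at hx ⊢
    rw [pow_succ', RingHom.mul_def, RingHom.comp_apply, hx, map_zero])⟩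
  obtain ⟨n, hn⟩ := monotone_stabilizes_iff_noetherian.2 (inferInstance : IsNoetherian R R) K
  have hs : Function.Surjective (θ ^ n : R →+* R) := by
    clear hn
    induction n with
    | zero => exact fun x => ⟨x, rfl⟩
    | succ n ih =>
      rw [pow_succ', RingHom.mul_def, RingHom.coe_comp]
      exact hθ.comp ih
  rw [injective_iff_map_eq_zero]
  intro x hx
  obtain ⟨y, rfl⟩ := hs x
  have h1 : y ∈ K (n + 1) := by
    show y ∈ RingHom.ker (θ ^ (n + 1))
    rw [RingHom.mem_ker, pow_succ', RingHom.mul_def, RingHom.comp_apply, hx]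
  rw [← hn (n + 1) (Nat.le_succ n)] at h1
  exact h1

section

variable {k : Type u} [Field k] {A P : Type u} [CommRing A] [CommRing P] [Algebra k A] [Algebra k P]
  [IsLocalRing A] [IsLocalRing P]

theorem isLocalHom_of_residue {R : Type*} [CommRing R] [Algebra k R] [IsLocalRing R] (σ : A →ₐ[k] R)
    (hR : ∀ r : R, ∃ c : k, r - algebraMap k R c ∈ maximalIdeal R) : IsLocalHom (σ : A →+* R) := by
  refine ⟨fun x hx => ?_⟩
  by_contra hc
  obtain ⟨c, hc'⟩ := hR (σ x)
  have hc0 : c ≠ 0 := by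
    rintro rfl
    rw [map_zero, sub_zero] at hc'
    exact hc' hx
  have hu : IsUnit (x - algebraMap k A c) := by
    by_contra h
    have h1 : algebraMap k A c ∈ maximalIdeal A := by
      have := (maximalIdeal A).sub_mem (show x ∈ maximalIdeal A from hc) (show _ ∈ maximalIdeal A from h)
      rwa [sub_sub_cancel] at this
    exact h1 ((isUnit_iff_ne_zero.2 hc0).map (algebraMap k A))
  have h2 : IsUnit (σ (x - algebraMap k A c)) := hu.map σ
  rw [map_sub, σ.commutes] at h2
  exact hc' h2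

variable [IsNoetherianRing P] (Φ : P →ₐ[k] A) (hΦ : Function.Surjective Φ)
  (hker : RingHom.ker Φ ≤ maximalIdeal P ^ 2)
  (hP : ∀ f : P, ∃ c : k, f - algebraMap k P c ∈ maximalIdeal P)

/-- the successive lifts -/
def Lft (n : ℕ) : Prop :=
  ∃ σ : A →ₐ[k] P ⧸ maximalIdeal P ^ n, ∀ f z : P, Ideal.Quotient.mk _ z = σ (Φ f) → z - f ∈ maximalIdeal P ^ 2

include hΦ hker in
theorem lft_two : Lft Φ 2 := by
  let e : (P ⧸ RingHom.ker Φ) ≃ₐ[k] A := Ideal.quotientKerAlgEquivOfSurjective hΦ
  refine ⟨(Ideal.Quotient.factorₐ k hker).comp (e.symm : A →ₐ[k] P ⧸ RingHom.ker Φ), ?_⟩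
  intro f z hz
  have h1 : e.symm (Φ f) = Ideal.Quotient.mk _ f := by
    rw [AlgEquiv.symm_apply_eq]
    rfl
  have h2 : Ideal.Quotient.mk (maximalIdeal P ^ 2) z = Ideal.Quotient.mk (maximalIdeal P ^ 2) f := by
    rw [hz]
    show Ideal.Quotient.factorₐ k hker (e.symm (Φ f)) = _
    rw [h1]
    rfl
  exact (Ideal.Quotient.eq).1 h2

theorem isLocalRing_quot (n : ℕ) (hn : n ≠ 0) : IsLocalRing (P ⧸ maximalIdeal P ^ n) := by
  have hne : maximalIdeal P ^ n ≠ ⊤ := fun h =>
    (maximalIdeal.isMaximal P).ne_top (top_le_iff.1 (h ▸ Ideal.pow_le_self hn))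
  have : Nontrivial (P ⧸ maximalIdeal P ^ n) := Ideal.Quotient.nontrivial_iff.2 hne
  exact IsLocalRing.of_surjective' (Ideal.Quotient.mk _) Ideal.Quotient.mk_surjective

theorem isArtinianRing_quot (n : ℕ) (hn : n ≠ 0) : IsArtinianRing (P ⧸ maximalIdeal P ^ n) := by
  have := isLocalRing_quot (P := P) n hn
  have : IsNoetherianRing (P ⧸ maximalIdeal P ^ n) :=
    isNoetherianRing_of_surjective P _ (Ideal.Quotient.mk _) Ideal.Quotient.mk_surjective
  rw [isArtinianRing_iff_isNilpotent_maximalIdeal]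
  refine ⟨n, ?_⟩
  rw [← map_maximalIdeal_of_surjective (Ideal.Quotient.mk (maximalIdeal P ^ n)) Ideal.Quotient.mk_surjective,
    ← Ideal.map_pow, Ideal.map_quotient_self]
  rfl

include hP in
theorem residue_quot (n : ℕ) (hn : n ≠ 0) :
    haveI := isLocalRing_quot (P := P) n hn
    ∀ r : P ⧸ maximalIdeal P ^ n, ∃ c : k, r - algebraMap k _ c ∈ maximalIdeal (P ⧸ maximalIdeal P ^ n) := by
  have := isLocalRing_quot (P := P) n hn
  intro r
  obtain ⟨f, rfl⟩ := Ideal.Quotient.mk_surjective r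
  obtain ⟨c, hc⟩ := hP f
  refine ⟨c, ?_⟩
  have := Ideal.mem_map_of_mem (Ideal.Quotient.mk (maximalIdeal P ^ n)) hc
  rw [map_maximalIdeal_of_surjective (Ideal.Quotient.mk (maximalIdeal P ^ n)) Ideal.Quotient.mk_surjective,
    map_sub] at this
  exact this

variable (hlift : ∀ (R : Type u) [CommRing R] [Algebra k R] [IsArtinianRing R] [IsLocalRing R] (J : Ideal R),
        J ^ 2 = ⊥ → ∀ f : A →ₐ[k] R ⧸ J, IsLocalHom (f : A →+* R ⧸ J) →
          ∃ g : A →ₐ[k] R, (Ideal.Quotient.mkₐ k J).comp g = f)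

include hP hlift in
theorem lft_succ (n : ℕ) (hn : n ≠ 0) (h : Lft Φ n) : Lft Φ (n + 1) := by
  obtain ⟨σ, hσ⟩ := h
  have h1 := isLocalRing_quot (P := P) n hn
  have h2 := isLocalRing_quot (P := P) (n + 1) (Nat.succ_ne_zero n)
  have h3 := isArtinianRing_quot (P := P) (n + 1) (Nat.succ_ne_zero n)
  have hle : maximalIdeal P ^ (n + 1) ≤ maximalIdeal P ^ n := Ideal.pow_le_pow_right (Nat.le_succ n)
  let J : Ideal (P ⧸ maximalIdeal P ^ (n + 1)) :=
    (maximalIdeal P ^ n).map (Ideal.Quotient.mkₐ k (maximalIdeal P ^ (n + 1)))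
  have hJ : J ^ 2 = ⊥ := by
    show (Ideal.map (Ideal.Quotient.mk (maximalIdeal P ^ (n + 1))) (maximalIdeal P ^ n)) ^ 2 = ⊥
    rw [← Ideal.map_pow, ← pow_mul, Ideal.map_eq_bot_iff_le_ker, Ideal.mk_ker]
    exact Ideal.pow_le_pow_right (by omega)
  let e : ((P ⧸ maximalIdeal P ^ (n + 1)) ⧸ J) ≃ₐ[k] P ⧸ maximalIdeal P ^ n :=
    DoubleQuot.quotQuotEquivQuotOfLEₐ k hle
  have hσl : IsLocalHom (σ : A →+* P ⧸ maximalIdeal P ^ n) :=
    isLocalHom_of_residue σ (residue_quot hP n hn)
  obtain ⟨g, hg⟩ := hlift (P ⧸ maximalIdeal P ^ (n + 1)) J hJ ((e.symm : _ →ₐ[k] _).comp σ) (by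
    refine ⟨fun x hx => ?_⟩
    have hx' : IsUnit (e (e.symm (σ x))) := hx.map e
    rw [AlgEquiv.apply_symm_apply] at hx'
    exact hσl.map_nonunit x hx')
  refine ⟨g, fun f z hz => ?_⟩
  apply hσ f z
  have h4 : Ideal.Quotient.mk J (g (Φ f)) = e.symm (σ (Φ f)) := DFunLike.congr_fun hg (Φ f)
  have h5 : e (Ideal.Quotient.mk J (g (Φ f))) = σ (Φ f) := by rw [h4, AlgEquiv.apply_symm_apply]
  rw [← h5, ← hz]
  rfl

include hΦ hker hP hlift in
theorem lft (n : ℕ) : Lft Φ (n + 2) := by
  induction n with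
  | zero => exact lft_two Φ hΦ hker
  | succ n ih => exact lft_succ Φ hP hlift (n + 2) (by omega) ih

include hΦ hker hP hlift in
theorem ker_le_pow (n : ℕ) : RingHom.ker Φ ≤ maximalIdeal P ^ (n + 2) := by
  have hl := lft Φ hΦ hker hP hlift n
  generalize n + 2 = N at hl ⊢
  obtain ⟨σ, hσ⟩ := hl
  let m := maximalIdeal P
  let mk : P →+* P ⧸ m ^ N := Ideal.Quotient.mk (m ^ N)
  have hmk : Function.Surjective mk := Ideal.Quotient.mk_surjective
  let θ : P →+* P ⧸ m ^ N := (σ : A →+* P ⧸ m ^ N).comp (Φ : P →+* A)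
  have hθ2 : ∀ f : P, θ f - mk f ∈ (m ^ 2).map mk := by
    intro f
    obtain ⟨z, hz⟩ := hmk (θ f)
    rw [← hz, ← map_sub]
    exact Ideal.mem_map_of_mem _ (hσ f z hz)
  have hθm : m.map θ ≤ m.map mk := by
    rw [Ideal.map_le_iff_le_comap]
    intro f hf
    rw [Ideal.mem_comap, ← sub_add_cancel (θ f) (mk f)]
    exact Ideal.add_mem _ (Ideal.map_mono (Ideal.pow_le_self two_ne_zero) (hθ2 f)) (Ideal.mem_map_of_mem _ hf)
  have hθpow : ∀ j, ∀ f ∈ m ^ j, θ f ∈ (m ^ j).map mk := by
    intro j f hf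
    have := Ideal.mem_map_of_mem θ hf
    rw [Ideal.map_pow] at this
    rw [Ideal.map_pow]
    exact Ideal.pow_right_mono hθm j this
  have hstar : ∀ j, ∀ w ∈ m ^ j, θ w - mk w ∈ (m ^ (j + 1)).map mk := by
    intro j
    induction j with
    | zero =>
      intro w _
      exact Ideal.map_mono (Ideal.pow_le_pow_right (by omega)) (hθ2 w)
    | succ j ih =>
      intro w hw
      rw [pow_succ'] at hw
      refine Submodule.mul_induction_on hw ?_ ?_
      · intro p hp q hq
        have e : θ (p * q) - mk (p * q) = (θ p - mk p) * θ q + mk p * (θ q - mk q) := by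
          rw [map_mul, map_mul]; ring
        rw [e]
        refine Ideal.add_mem _ ?_ ?_
        · have := Ideal.mul_mem_mul (hθ2 p) (hθpow j q hq)
          rwa [← Ideal.map_mul, ← pow_add, show 2 + j = j + 1 + 1 by ring] at this
        · have := Ideal.mul_mem_mul (Ideal.mem_map_of_mem mk hp) (ih q hq)
          rwa [← Ideal.map_mul, ← pow_succ'] at this
      · intro x y hx hy
        rw [map_add, map_add, add_sub_add_comm]
        exact Ideal.add_mem _ hx hy
  have hker' : ∀ a ∈ m ^ N, θ a = 0 := by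
    intro a ha
    have := hθpow N a ha
    rw [Ideal.map_quotient_self] at this
    exact this
  let θ' : P ⧸ m ^ N →+* P ⧸ m ^ N := Ideal.Quotient.lift (m ^ N) θ hker'
  have hsurj : Function.Surjective θ' := by
    have key : ∀ j : ℕ, ∀ y : P, ∃ f : P, ∃ w ∈ m ^ j, mk y - θ f = mk w := by
      intro j
      induction j with
      | zero => intro y; exact ⟨0, y, by simp, by simp⟩
      | succ j ih =>
        intro y
        obtain ⟨f, w, hw, he⟩ := ih y
        have h1 := hstar j w hw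
        rw [Ideal.mem_map_iff_of_surjective _ hmk] at h1
        obtain ⟨w', hw', he'⟩ := h1
        refine ⟨f + w, -w', neg_mem hw', ?_⟩
        rw [map_add, map_neg, he', ← sub_sub, he]
        ring
    intro y
    obtain ⟨y, rfl⟩ := hmk y
    obtain ⟨f, w, hw, he⟩ := key N y
    refine ⟨mk f, ?_⟩
    show θ f = mk y
    have : mk w = 0 := Ideal.Quotient.eq_zero_iff_mem.2 hw
    rw [this, sub_eq_zero] at he
    exact he.symm
  have : IsNoetherianRing (P ⧸ m ^ N) :=
    isNoetherianRing_of_surjective P _ (Ideal.Quotient.mk _) Ideal.Quotient.mk_surjective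
  have hinj := injective_of_surjective_endo θ' hsurj
  intro x hx
  rw [RingHom.mem_ker] at hx
  have h1 : θ' (mk x) = 0 := by
    show θ x = 0
    show σ (Φ x) = 0
    rw [hx, map_zero]
  have h2 : mk x = 0 := hinj (by rw [h1, map_zero])
  exact Ideal.Quotient.eq_zero_iff_mem.1 h2

include hΦ hker hP hlift in
theorem bijective : Function.Bijective Φ := by
  refine ⟨?_, hΦ⟩
  rw [injective_iff_map_eq_zero]
  intro x hx
  have h : x ∈ (⊥ : Ideal P) := by
    rw [← Ideal.iInf_pow_eq_bot_of_isLocalRing (maximalIdeal P) (maximalIdeal.isMaximal P).ne_top, Ideal.mem_iInf]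
    intro n
    exact Ideal.pow_le_pow_right (by omega) (ker_le_pow Φ hΦ hker hP hlift n hx)
  simpa using h

end

end K95.LiftArt
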