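import Groth.Prelude.Def_EtGlue
import Groth.Agent.S2000
import Groth.Agent.S2003
import Groth.Agent.S2004
import Groth.Agent.CAlg.K92.HorrocksFinal
import Mathlib.Algebra.Polynomial.Laurent
import Mathlib.Algebra.Polynomial.Reverse
import Mathlib.RingTheory.Localization.BaseChange

/-!
# Gluing along `(A[X] → A[X]_{1 + (X)}, X)`, and isomorphisms over the localization at monic polynomials
-/

set_option autoImplicit false
universe u
open Polynomial TensorProduct

namespace K95.MonicGlue

/-- base change retraction -/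
theorem nonempty_equiv_of_retract {A S : Type u} [CommRing A] [CommRing S] [Algebra A S] (ρ : S →ₐ[A] A)
    (P P' : Type u) [AddCommGroup P] [Module A P] [AddCommGroup P'] [Module A P']
    (h : Nonempty ((S ⊗[A] P) ≃ₗ[S] (S ⊗[A] P'))) : Nonempty (P ≃ₗ[A] P') := by
  let _ : Algebra S A := ρ.toRingHom.toAlgebra
  have : IsScalarTower A S A := IsScalarTower.of_algebraMap_eq fun a => (ρ.commutes a).symm
  obtain ⟨e⟩ := h
  let c : ∀ (Q : Type u) [AddCommGroup Q] [Module A Q], (A ⊗[S] (S ⊗[A] Q)) ≃ₗ[A] Q := fun Q _ _ =>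
    (TensorProduct.AlgebraTensorModule.cancelBaseChange A S A A Q).trans (TensorProduct.lid A Q)
  exact ⟨(c P).symm.trans ((LinearEquiv.baseChange S A _ _ e).trans (c P'))⟩

variable (A : Type u) [CommRing A]

/-- polynomials with constant coefficient one. -/
def one : Submonoid A[X] where
  carrier := {f | f.coeff 0 = 1}
  one_mem' := by simp
  mul_mem' := by
    intro a b ha hb
    change (a * b).coeff 0 = 1
    rw [Polynomial.mul_coeff_zero, show a.coeff 0 = 1 from ha, show b.coeff 0 = 1 from hb, one_mul]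

theorem mem_one (f : A[X]) : f ∈ one A ↔ f.coeff 0 = 1 := Iff.rfl

variable {A}

theorem exists_inv {s : A[X]} (hs : s.coeff 0 = 1) (n : ℕ) : ∃ g c : A[X], g * s = 1 + X ^ n * c := by
  have h1 : X ∣ s - 1 := by
    rw [X_dvd_iff]
    simp [hs]
  obtain ⟨h, hh⟩ := h1
  have h2 : (1 - (-(X * h))) ∣ (1 : A[X]) ^ n - (-(X * h)) ^ n := sub_dvd_pow_sub_pow _ _ n
  obtain ⟨g, hg⟩ := h2
  refine ⟨g, -((-h) ^ n), ?_⟩
  have h3 : s = 1 - (-(X * h)) := by rw [sub_neg_eq_add, ← hh]; ring
  rw [h3, mul_comm, ← hg, one_pow]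
  have : (-(X * h)) ^ n = X ^ n * (-h) ^ n := by rw [← mul_pow]; congr 1; ring
  rw [this]
  ring

theorem X_reg {p : A[X]} {n : ℕ} (h : X ^ n * p = 0) : p = 0 := by
  ext d
  have h1 := congrArg (fun q => q.coeff (d + n)) h
  simpa [coeff_X_pow_mul] using h1

section Glue

variable (R' : Type u) [CommRing R'] [Algebra A[X] R'] [IsLocalization (one A) R']

theorem X_reg' {x : R'} {n : ℕ} (h : algebraMap A[X] R' X ^ n * x = 0) : x = 0 := by
  obtain ⟨a, s, rfl⟩ := IsLocalization.exists_mk'_eq (one A) x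
  rw [← map_pow, IsLocalization.mul_mk'_eq_mk'_of_mul, IsLocalization.mk'_eq_zero_iff] at h
  obtain ⟨m, hm⟩ := h
  rw [IsLocalization.mk'_eq_zero_iff]
  refine ⟨m, X_reg (n := n) ?_⟩
  rw [← hm]
  ring

theorem quotPow : EtGlue.QuotPowBijective A[X] R' (X : A[X]) := by
  intro n _
  constructor
  · rw [injective_iff_map_eq_zero]
    intro z hz
    obtain ⟨p, rfl⟩ := Ideal.Quotient.mk_surjective z
    rw [Ideal.quotientMap_mk, Ideal.Quotient.eq_zero_iff_mem, Ideal.map_span, Set.image_singleton,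
      Ideal.mem_span_singleton] at hz
    obtain ⟨y, hy⟩ := hz
    obtain ⟨a, s, rfl⟩ := IsLocalization.exists_mk'_eq (one A) y
    rw [IsLocalization.mul_mk'_eq_mk'_of_mul, IsLocalization.eq_mk'_iff_mul_eq, ← map_mul,
      IsLocalization.eq_iff_exists (one A)] at hy
    obtain ⟨c, hc⟩ := hy
    obtain ⟨g, d, hg⟩ := exists_inv (show ((c : A[X]) * (s : A[X])).coeff 0 = 1 from (c * s).2) n
    rw [Ideal.Quotient.eq_zero_iff_mem, Ideal.mem_span_singleton]
    refine ⟨g * (c : A[X]) * a - d * p, ?_⟩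
    have h1 : (g * ((c : A[X]) * (s : A[X]))) * p = g * ((c : A[X]) * (X ^ n * a)) := by rw [← hc]; ring
    rw [hg] at h1
    linear_combination h1
  · intro z
    obtain ⟨y, rfl⟩ := Ideal.Quotient.mk_surjective z
    obtain ⟨a, s, rfl⟩ := IsLocalization.exists_mk'_eq (one A) y
    obtain ⟨g, d, hg⟩ := exists_inv (show (s : A[X]).coeff 0 = 1 from s.2) n
    refine ⟨Ideal.Quotient.mk _ (a * g), ?_⟩
    rw [Ideal.quotientMap_mk, Ideal.Quotient.eq, Ideal.map_span, Set.image_singleton, Ideal.mem_span_singleton]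
    refine ⟨algebraMap A[X] R' d * IsLocalization.mk' R' a s, ?_⟩
    have h2 : algebraMap A[X] R' s * IsLocalization.mk' R' a s = algebraMap A[X] R' a := IsLocalization.mk'_spec' _ _ _
    have h3 : algebraMap A[X] R' (g * s) = algebraMap A[X] R' (1 + X ^ n * d) := by rw [hg]
    simp only [map_mul, map_add, map_one, map_pow] at h3 ⊢
    rw [← h2]
    linear_combination (IsLocalization.mk' R' a s) * h3

theorem gluePair : EtGlue.IsGlueingPair A[X] R' (X : A[X]) := by
  rw [Groth.Agent.S2004.result _ _ _ (quotPow R')]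
  refine ⟨?_, ?_⟩
  · rintro x ⟨n, hn⟩ _
    exact X_reg hn
  · rintro x ⟨n, hn⟩
    exact ⟨0, ⟨0, by simp⟩, by rw [X_reg' R' hn, map_zero]⟩

end Glue

section Core

variable (R' At : Type u) [CommRing R'] [CommRing At]
  [Algebra A[X] R'] [IsLocalization (one A) R'] [Algebra A[X] At] [Algebra R' At] [IsScalarTower A[X] R' At]
  [IsLocalization.Away (algebraMap A[X] R' X) At]
  [Algebra A R'] [IsScalarTower A A[X] R'] [Algebra A At] [IsScalarTower A A[X] At] [IsScalarTower A R' At]

/-- `At ⊗ P` is the localization of `R' ⊗ P` at `X`. -/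
noncomputable def locEquiv (P : Type u) [AddCommGroup P] [Module A P] :
    LocalizedModule (Submonoid.powers (algebraMap A[X] R' X)) (R' ⊗[A] P) ≃ₗ[R'] At ⊗[A] P :=
  (IsLocalizedModule.linearEquiv (Submonoid.powers (algebraMap A[X] R' X))
    (LocalizedModule.mkLinearMap _ (R' ⊗[A] P)) (TensorProduct.mk R' At (R' ⊗[A] P) 1)).trans
    (TensorProduct.AlgebraTensorModule.cancelBaseChange A R' R' At P)

omit [IsLocalization (one A) R'] [Algebra A R'] [IsScalarTower A A[X] R'] [Algebra A At]
  [IsScalarTower A A[X] At] [IsScalarTower A R' At] in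
/-- `At` is the pushout. -/
theorem isPushout (L : Type u) [CommRing L] [Algebra A[X] L] [IsLocalization.Away (X : A[X]) L] [Algebra L At]
    [IsScalarTower A[X] L At] : Algebra.IsPushout A[X] R' L At := by
  rw [← Algebra.isLocalization_iff_isPushout (Submonoid.powers (X : A[X])) L]
  have : Algebra.algebraMapSubmonoid R' (Submonoid.powers (X : A[X])) =
      Submonoid.powers (algebraMap A[X] R' X) := by
    rw [Algebra.algebraMapSubmonoid, Submonoid.map_powers]
  rw [this]
  infer_instance

noncomputable def tensEquiv (L : Type u) [CommRing L] [Algebra A[X] L] [IsLocalization.Away (X : A[X]) L] [Algebra L At]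
    [IsScalarTower A[X] L At] [Algebra A L] [IsScalarTower A A[X] L] [IsScalarTower A L At]
    (P : Type u) [AddCommGroup P] [Module A P] :
    R' ⊗[A[X]] (L ⊗[A] P) ≃ₗ[R'] At ⊗[A] P :=
  have := isPushout R' At L
  have : Algebra.IsPushout A[X] L R' At := this.symm
  (TensorProduct.AlgebraTensorModule.assoc A A[X] R' R' L P).symm.trans
    (TensorProduct.AlgebraTensorModule.congr (Algebra.IsPushout.equiv A[X] R' L At).toLinearEquiv (LinearEquiv.refl A P))

omit [IsScalarTower A A[X] At] in
/-- Glue `P` near `X = 0` with `P'` away from `X = 0`. -/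
theorem exists_glued (L : Type u) [CommRing L] [Algebra A[X] L] [IsLocalization.Away (X : A[X]) L] [Algebra L At]
    [IsScalarTower A[X] L At] [Algebra A L] [IsScalarTower A A[X] L] [IsScalarTower A L At]
    (P P' : Type u) [AddCommGroup P] [Module A P] [Module.Finite A P] [Module.Projective A P]
    [AddCommGroup P'] [Module A P'] [Module.Finite A P'] [Module.Projective A P']
    (θ : (At ⊗[A] P) ≃ₗ[R'] (At ⊗[A] P')) :
    ∃ (Q : Type u) (_ : AddCommGroup Q) (_ : Module A[X] Q), Module.Finite A[X] Q ∧ Module.Projective A[X] Q ∧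
      Nonempty ((R' ⊗[A[X]] Q) ≃ₗ[R'] (R' ⊗[A] P)) ∧ Nonempty ((L ⊗[A[X]] Q) ≃ₗ[L] (L ⊗[A] P')) := by
  have hXu : IsUnit (algebraMap A[X] L X) := IsLocalization.Away.algebraMap_isUnit _
  have hf : Function.Bijective fun x : L ⊗[A] P' => (X : A[X]) • x := by
    obtain ⟨u, hu⟩ := hXu
    have h1 : ∀ x : L ⊗[A] P', (X : A[X]) • x = (u : L) • x := by
      intro x
      rw [hu, algebraMap_smul]
    have h2 : (fun x : L ⊗[A] P' => (X : A[X]) • x) = fun x => u • x := funext h1
    rw [h2]
    exact MulAction.bijective u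
  obtain ⟨Q, _, _, -, e', e₁, -⟩ := Groth.Agent.S2000.result A[X] R' X (gluePair R') (R' ⊗[A] P) (L ⊗[A] P') hf
    ((locEquiv R' At P).trans (θ.trans (tensEquiv R' At L P').symm))
  let ε : Localization.Away (X : A[X]) ≃ₐ[A[X]] L := IsLocalization.algEquiv (Submonoid.powers (X : A[X])) _ _
  have h1 : Module.Finite R' (R' ⊗[A[X]] Q) := Module.Finite.equiv e'.symm
  have h2 : Module.Projective R' (R' ⊗[A[X]] Q) := Module.Projective.of_equiv' e'.symm
  let e₂ : LocalizedModule (Submonoid.powers (X : A[X])) Q ≃ₗ[A[X]] (Localization.Away (X : A[X])) ⊗[A] P' :=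
    e₁.trans (TensorProduct.AlgebraTensorModule.congr ε.symm.toLinearEquiv (LinearEquiv.refl A P'))
  let e₃ : LocalizedModule (Submonoid.powers (X : A[X])) Q ≃ₗ[Localization.Away (X : A[X])]
      (Localization.Away (X : A[X])) ⊗[A] P' := e₂.extendScalarsOfIsLocalization (Submonoid.powers (X : A[X])) _
  have h3 : Module.Finite (Localization.Away (X : A[X])) (LocalizedModule (Submonoid.powers (X : A[X])) Q) :=
    Module.Finite.equiv e₃.symm
  have h4 : Module.Projective (Localization.Away (X : A[X])) (LocalizedModule (Submonoid.powers (X : A[X])) Q) :=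
    Module.Projective.of_equiv' e₃.symm
  obtain ⟨h5, h6⟩ := (Groth.Agent.S2003.result A[X] R' X (gluePair R') Q).2 ⟨⟨h1, h2⟩, ⟨h3, h4⟩⟩
  refine ⟨Q, inferInstance, inferInstance, h5, h6, ⟨e'⟩, ⟨?_⟩⟩
  exact ((IsLocalizedModule.linearEquiv (Submonoid.powers (X : A[X])) (TensorProduct.mk A[X] L Q 1)
    (LocalizedModule.mkLinearMap _ Q)).trans e₁).extendScalarsOfIsLocalization (Submonoid.powers (X : A[X])) L

end Core

section Ext

open LaurentPolynomial

instance towerL (A : Type u) [CommRing A] : IsScalarTower A A[X] A[T;T⁻¹] := IsScalarTower.of_algebraMap_eq fun x => by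
  change algebraMap A A[T;T⁻¹] x = toLaurent (Polynomial.C x)
  rw [Polynomial.toLaurent_C]
  rfl

/-- A finite projective `A[X]`-module which is extended over `A[X, X⁻¹]` is extended. -/
theorem extended (Q : Type u) [AddCommGroup Q] [Module A[X] Q] [Module.Finite A[X] Q] [Module.Projective A[X] Q]
    (P' : Type u) [AddCommGroup P'] [Module A P'] [Module.Finite A P'] [Module.Projective A P']
    (e : (A[T;T⁻¹] ⊗[A[X]] Q) ≃ₗ[A[T;T⁻¹]] (A[T;T⁻¹] ⊗[A] P')) :
    ∃ (P : Type u) (_ : AddCommGroup P) (_ : Module A P), Nonempty (Q ≃ₗ[A[X]] (A[X] ⊗[A] P)) := by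
  let ψ : (A[T;T⁻¹] ⊗[A[X]] (A[X] ⊗[A] P')) ≃ₗ[A[T;T⁻¹]] (A[T;T⁻¹] ⊗[A] P') :=
    TensorProduct.AlgebraTensorModule.cancelBaseChange A A[X] A[T;T⁻¹] A[T;T⁻¹] P'
  let σ : A[T;T⁻¹] →+* A[T;T⁻¹] := (LaurentPolynomial.invert (R := A)).toRingEquiv.toRingHom
  let τ : (A[T;T⁻¹] ⊗[A] P') →ₗ[A] (A[T;T⁻¹] ⊗[A] P') :=
    TensorProduct.map (LaurentPolynomial.invert (R := A)).toLinearMap LinearMap.id
  have hτ : ∀ x, τ (τ x) = x := by
    intro x
    induction x using TensorProduct.induction_on with
    | zero => simp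
    | tmul x p =>
      simp only [τ, TensorProduct.map_tmul, LinearMap.id_apply]
      congr 1
      exact LaurentPolynomial.involutive_invert x
    | add x y hx hy => rw [map_add, map_add, hx, hy]
  have hsemi : ∀ (c : A[T;T⁻¹]) x, τ (c • x) = σ c • τ x := by
    intro c x
    induction x using TensorProduct.induction_on with
    | zero => simp
    | tmul x p =>
      simp only [τ, TensorProduct.map_tmul, LinearMap.id_apply, TensorProduct.smul_tmul',
        smul_eq_mul]
      congr 1
      exact map_mul (LaurentPolynomial.invert (R := A)) c x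
    | add x y hx hy => rw [smul_add, map_add, hx, hy, map_add, smul_add]
  let F : (A[T;T⁻¹] ⊗[A[X]] Q) →ₛₗ[(LaurentPolynomial.invert (R := A)).toRingEquiv.toRingHom]
      (A[T;T⁻¹] ⊗[A[X]] (A[X] ⊗[A] P')) :=
    { toFun := fun x => ψ.symm (τ (e x))
      map_add' := fun x y => by rw [map_add, map_add, map_add]
      map_smul' := fun c x => by rw [map_smul, hsemi, map_smul] }
  refine K92.Horrocks.extended_of_glue A Q (A[X] ⊗[A] P') F ?_
  change Function.Bijective (ψ.symm ∘ τ ∘ e)
  exact ψ.symm.bijective.comp ((Function.Involutive.bijective hτ).comp e.bijective)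

theorem of_retract {S : Type u} [CommRing S] [Algebra A S] [Algebra A[X] S] [IsScalarTower A A[X] S] (ρ : S →ₐ[A] A)
    (Q : Type u) [AddCommGroup Q] [Module A[X] Q]
    (P P'' : Type u) [AddCommGroup P] [Module A P] [AddCommGroup P''] [Module A P'']
    (e : Q ≃ₗ[A[X]] (A[X] ⊗[A] P'')) (e' : (S ⊗[A[X]] Q) ≃ₗ[S] (S ⊗[A] P)) : Nonempty (P ≃ₗ[A] P'') :=
  nonempty_equiv_of_retract ρ P P'' ⟨e'.symm.trans ((LinearEquiv.baseChange A[X] S _ _ e).trans
    (TensorProduct.AlgebraTensorModule.cancelBaseChange A A[X] S S P''))⟩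

end Ext

/-- The main theorem, in the coordinate at infinity. -/
theorem main {At : Type u} [CommRing At] [Algebra A At] (φ : A[X] →ₐ[A] At)
    (h1 : ∀ f : A[X], f.coeff 0 = 1 → IsUnit (φ f)) (h2 : IsUnit (φ X)) (h3 : Function.Injective φ)
    (h4 : ∀ z : At, ∃ (n : ℕ) (f p : A[X]), f.coeff 0 = 1 ∧ φ X ^ n * φ f * z = φ p)
    (P P' : Type u) [AddCommGroup P] [Module A P] [Module.Finite A P] [Module.Projective A P]
    [AddCommGroup P'] [Module A P'] [Module.Finite A P'] [Module.Projective A P']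
    (θ : (At ⊗[A] P) ≃ₗ[At] (At ⊗[A] P')) : Nonempty (P ≃ₗ[A] P') := by
  let R' := Localization (one A)
  let _ : Algebra A[X] At := φ.toRingHom.toAlgebra
  have hφ : ∀ p, algebraMap A[X] At p = φ p := fun _ => rfl
  have t1 : IsScalarTower A A[X] At := IsScalarTower.of_algebraMap_eq fun a => (φ.commutes a).symm
  let g : R' →+* At := IsLocalization.lift (M := one A) (g := φ.toRingHom) fun f => h1 f f.2
  have hg : ∀ p, g (algebraMap A[X] R' p) = φ p := fun p => IsLocalization.lift_eq _ _
  let _ : Algebra R' At := g.toAlgebra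
  have hg' : ∀ p, algebraMap R' At p = g p := fun _ => rfl
  have t2 : IsScalarTower A[X] R' At := IsScalarTower.of_algebraMap_eq fun p => (hg p).symm
  have t3 : IsScalarTower A R' At := IsScalarTower.of_algebraMap_eq (R := A) (S := R') (A := At) fun a => by
    rw [IsScalarTower.algebraMap_apply A A[X] R' a, hg', hg]
    exact (φ.commutes a).symm
  have hloc : IsLocalization.Away (algebraMap A[X] R' X) At := by
    refine ⟨⟨?_, ?_, ?_⟩⟩
    · rintro ⟨_, n, rfl⟩
      change IsUnit (algebraMap R' At (algebraMap A[X] R' X ^ n))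
      rw [map_pow, hg', hg]
      exact h2.pow n
    · intro z
      obtain ⟨n, f, p, hf, hz⟩ := h4 z
      refine ⟨⟨IsLocalization.mk' R' p (⟨f, hf⟩ : one A), ⟨_, n, rfl⟩⟩, ?_⟩
      apply (h1 f hf).mul_left_cancel
      have h5 : φ f * g (IsLocalization.mk' R' p (⟨f, hf⟩ : one A)) = φ p := by
        rw [← hg, ← map_mul, ← hg]
        congr 1
        exact IsLocalization.mk'_spec' (S := R') (M := one A) p ⟨f, hf⟩
      change φ f * (z * algebraMap R' At (algebraMap A[X] R' X ^ n)) = φ f * g _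
      rw [h5, ← hz, map_pow, hg', hg]
      ring
    · intro x y hxy
      refine ⟨1, ?_⟩
      obtain ⟨a, s, rfl⟩ := IsLocalization.exists_mk'_eq (one A) x
      obtain ⟨b, t, rfl⟩ := IsLocalization.exists_mk'_eq (one A) y
      have h5 : ∀ (a : A[X]) (s : one A), φ s * g (IsLocalization.mk' R' a s) = φ a := by
        intro a s
        rw [← hg, ← map_mul, ← hg]
        congr 1
        exact IsLocalization.mk'_spec' _ _ _
      have hxy' : g (IsLocalization.mk' R' a s) = g (IsLocalization.mk' R' b t) := hxy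
      have h6 : φ (t * a) = φ (s * b) := by
        rw [map_mul, map_mul, ← h5 a s, ← h5 b t, hxy']
        ring
      congr 1
      rw [IsLocalization.mk'_eq_iff_eq]
      congr 1
      exact h3 h6
  let gL : LaurentPolynomial A →+* At := IsLocalization.lift (M := Submonoid.powers (X : A[X])) (g := φ.toRingHom) (by
    rintro ⟨_, n, rfl⟩
    change IsUnit (φ (X ^ n))
    rw [map_pow]
    exact h2.pow n)
  let _ : Algebra (LaurentPolynomial A) At := gL.toAlgebra
  have t4 : IsScalarTower A[X] (LaurentPolynomial A) At := IsScalarTower.of_algebraMap_eq fun p =>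
    (IsLocalization.lift_eq _ _).symm
  have t5 : IsScalarTower A (LaurentPolynomial A) At := IsScalarTower.of_algebraMap_eq fun a => by
    rw [IsScalarTower.algebraMap_apply A A[X] (LaurentPolynomial A),
      ← IsScalarTower.algebraMap_apply A[X] (LaurentPolynomial A) At, ← IsScalarTower.algebraMap_apply A A[X] At]
  obtain ⟨Q, _, _, _, _, ⟨e⟩, ⟨e'⟩⟩ := exists_glued R' At (LaurentPolynomial A) P P' (θ.restrictScalars R')
  obtain ⟨P'', _, _, ⟨e''⟩⟩ := extended Q P' e'
  have hP : Nonempty (P ≃ₗ[A] P'') := by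
    let ρ₀ : R' →+* A := IsLocalization.lift (M := one A) (g := (Polynomial.evalRingHom (0 : A))) (by
      rintro ⟨f, hf⟩
      change IsUnit (f.eval 0)
      rw [← Polynomial.coeff_zero_eq_eval_zero, show f.coeff 0 = 1 from hf]
      exact isUnit_one)
    let ρ : R' →ₐ[A] A :=
      { ρ₀ with
        commutes' := fun a => by
          change ρ₀ (algebraMap A R' a) = a
          rw [IsScalarTower.algebraMap_apply A A[X] R']
          refine (IsLocalization.lift_eq _ _).trans ?_
          simp }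
    exact of_retract ρ Q P P'' e'' e
  have hP' : Nonempty (P' ≃ₗ[A] P'') := by
    let ρ₀ : LaurentPolynomial A →+* A := IsLocalization.lift (M := Submonoid.powers (X : A[X]))
      (g := (Polynomial.evalRingHom (1 : A))) (by
      rintro ⟨_, n, rfl⟩
      change IsUnit ((X ^ n : A[X]).eval 1)
      rw [eval_pow, eval_X, one_pow]
      exact isUnit_one)
    let ρ : LaurentPolynomial A →ₐ[A] A :=
      { ρ₀ with
        commutes' := fun a => by
          change ρ₀ (algebraMap A (LaurentPolynomial A) a) = a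
          rw [IsScalarTower.algebraMap_apply A A[X] (LaurentPolynomial A)]
          refine (IsLocalization.lift_eq _ _).trans ?_
          simp }
    exact of_retract ρ Q P' P'' e'' e'
  obtain ⟨a⟩ := hP
  obtain ⟨b⟩ := hP'
  exact ⟨a.trans b.symm⟩

end K95.MonicGlue
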