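import Groth.Agent.CalgB.RegHom8

/-!
# Regular homomorphisms: criterion by the closed fibres of the local homomorphisms `A_p → B_q`
-/

set_option autoImplicit false
universe u

namespace K95.RegHomLocal

open IsLocalRing TensorProduct
open Groth.Agent.CalgB.RegHom5 Groth.Agent.CalgB.RegHom6 Groth.Agent.CalgB.RegHom7 Groth.Agent.CalgB.RegHom8
open Groth.Agent.CalgB.RegHom1 Groth.Agent.CalgB.RegHom2 Groth.Agent.CalgB.RegHom3
open Groth.Agent.CalgB.RegHom4

/-- The tensor product of the localization `S_q` with a field `K` ess. of finite type whose kernel is `p = q ∩ R` is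
regular when the closed fibre of `R_p → S_q` is geometrically regular. -/
theorem isRegularRing_tensor_of_closedFibre {R S : Type u} [CommRing R] [CommRing S] [Algebra R S]
    (q : Ideal S) [q.IsPrime] (p : Ideal R) [p.IsPrime]
    [Algebra (Localization.AtPrime p) (Localization.AtPrime q)]
    [IsScalarTower R (Localization.AtPrime p) (Localization.AtPrime q)]
    (h : CAlg.IsGeometricallyRegular (maximalIdeal (Localization.AtPrime p)).ResidueField
      ((maximalIdeal (Localization.AtPrime p)).Fiber (Localization.AtPrime q)))
    (K : Type u) [Field K] [Algebra R K] [Algebra.EssFiniteType R K] (hK : RingHom.ker (algebraMap R K) = p) :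
    IsRegularRing (K ⊗[R] Localization.AtPrime q) := by
  let Rp := Localization.AtPrime p
  have hunit : ∀ y : p.primeCompl, IsUnit (algebraMap R K y) := by
    intro y
    rw [isUnit_iff_ne_zero]
    intro h0
    exact y.2 (hK.le (RingHom.mem_ker.2 h0))
  let f : Rp →+* K := IsLocalization.lift hunit
  let _ : Algebra Rp K := f.toAlgebra
  have hRp : IsScalarTower R Rp K := .of_algebraMap_eq fun x ↦ (IsLocalization.lift_eq hunit x).symm
  have hker : maximalIdeal Rp ≤ RingHom.ker (algebraMap Rp K) := by
    intro x hx
    obtain ⟨a, s, rfl⟩ := IsLocalization.exists_mk'_eq p.primeCompl x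
    rw [RingHom.mem_ker]
    have ha : a ∈ p := (IsLocalization.AtPrime.mk'_mem_maximal_iff Rp p a s).1 hx
    have h1 : algebraMap Rp K (IsLocalization.mk' Rp a s) * algebraMap R K s = 0 := by
      rw [IsScalarTower.algebraMap_apply R Rp K, ← map_mul, IsLocalization.mk'_spec, ← IsScalarTower.algebraMap_apply]
      exact RingHom.mem_ker.1 (hK.ge ha)
    rcases mul_eq_zero.1 h1 with h2 | h2
    · exact h2
    · exact absurd h2 (hunit s).ne_zero
  let g : (maximalIdeal Rp).ResidueField →ₐ[Rp] K :=
    Ideal.ResidueField.liftₐ (maximalIdeal Rp) (Algebra.ofId Rp K) hker (by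
      intro x hx
      have hx' : IsUnit x := by
        by_contra hc
        exact hx ((mem_maximalIdeal x).2 hc)
      exact hx'.map _)
  let _ : Algebra (maximalIdeal Rp).ResidueField K := g.toRingHom.toAlgebra
  have : IsScalarTower Rp (maximalIdeal Rp).ResidueField K := .of_algebraMap_eq fun x ↦ (g.commutes x).symm
  have : Algebra.EssFiniteType Rp K := Algebra.EssFiniteType.of_comp R _ _
  have : Algebra.EssFiniteType (maximalIdeal Rp).ResidueField K := Algebra.EssFiniteType.of_comp Rp _ _
  have h1 : IsRegularRing (K ⊗[(maximalIdeal Rp).ResidueField] ((maximalIdeal Rp).ResidueField ⊗[Rp] Localization.AtPrime q)) :=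
    isRegularRing_tensor_of_essFiniteType K h
  have h2 : IsRegularRing (K ⊗[Rp] Localization.AtPrime q) := IsRegularRing.of_ringEquiv
    (Algebra.TensorProduct.cancelBaseChange Rp (maximalIdeal Rp).ResidueField K K (Localization.AtPrime q)).toRingEquiv
  exact IsRegularRing.of_ringEquiv (IsLocalization.algebraTensorEquiv p.primeCompl Rp K (Localization.AtPrime q)).toRingEquiv

/-- The fibre condition from the closed fibres. -/
theorem fieldFib_of_closedFibres {R S : Type u} [CommRing R] [CommRing S] [Algebra R S] [IsNoetherianRing S]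
    (h : ∀ (q : Ideal S) [q.IsPrime],
      letI := (Localization.localRingHom (Ideal.comap (algebraMap R S) q) q (algebraMap R S) rfl).toAlgebra
      CAlg.IsGeometricallyRegular (maximalIdeal (Localization.AtPrime (Ideal.comap (algebraMap R S) q))).ResidueField
        ((maximalIdeal (Localization.AtPrime (Ideal.comap (algebraMap R S) q))).Fiber (Localization.AtPrime q))) :
    FieldFib R S := by
  intro K _ _ hK
  have hN : IsNoetherianRing (K ⊗[R] S) := isNoetherianRing_tensor R K S
  have hN' : IsNoetherianRing (S ⊗[R] K) := isNoetherianRing_of_ringEquiv _ (Algebra.TensorProduct.comm R K S).toRingEquiv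
  suffices h : IsRegularRing (S ⊗[R] K) from
    IsRegularRing.of_ringEquiv (Algebra.TensorProduct.comm R S K).toRingEquiv
  rw [isRegularRing_iff]
  intro P hP
  let Q := P.under S
  let _ := (Localization.localRingHom (Ideal.comap (algebraMap R S) Q) Q (algebraMap R S) rfl).toAlgebra
  have htow : IsScalarTower R (Localization.AtPrime (Ideal.comap (algebraMap R S) Q)) (Localization.AtPrime Q) := by
    refine .of_algebraMap_eq fun x ↦ ?_
    show _ = Localization.localRingHom (Ideal.comap (algebraMap R S) Q) Q (algebraMap R S) rfl (algebraMap R _ x)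
    rw [Localization.localRingHom_to_map, ← IsScalarTower.algebraMap_apply R S (Localization.AtPrime Q)]
  have hkerK : RingHom.ker (algebraMap R K) = Ideal.comap (algebraMap R S) Q := by
    have h1 : P.comap (Algebra.TensorProduct.includeRight : K →ₐ[R] S ⊗[R] K) = ⊥ := by
      have : (P.comap (Algebra.TensorProduct.includeRight : K →ₐ[R] S ⊗[R] K)).IsPrime := inferInstance
      exact Ideal.eq_bot_of_prime _
    ext x
    rw [RingHom.mem_ker]
    have h2 : (algebraMap R K x = 0) ↔ algebraMap R K x ∈ P.comap (Algebra.TensorProduct.includeRight : K →ₐ[R] S ⊗[R] K) := by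
      rw [h1]; rfl
    rw [h2, Ideal.mem_comap, Ideal.mem_comap, Ideal.mem_comap, AlgHom.commutes, ← IsScalarTower.algebraMap_apply]
  have h1 : IsRegularRing (K ⊗[R] Localization.AtPrime Q) :=
    isRegularRing_tensor_of_closedFibre Q (Ideal.comap (algebraMap R S) Q) (h Q) K hkerK
  have hover : (maximalIdeal (Localization.AtPrime Q)).LiesOver Q := ⟨(Localization.AtPrime.under_maximalIdeal).symm⟩
  obtain ⟨W, hW, hWP, -⟩ := exists_prime_tensorProduct Q P (maximalIdeal (Localization.AtPrime Q))
  let e1 : (S ⊗[R] K) ⊗[S] (Localization.AtPrime Q) ≃+* K ⊗[R] (Localization.AtPrime Q) :=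
    ((Algebra.TensorProduct.comm S (S ⊗[R] K) (Localization.AtPrime Q)).toRingEquiv.trans
      (Algebra.TensorProduct.cancelBaseChange R S S (Localization.AtPrime Q) K).toRingEquiv).trans
      (Algebra.TensorProduct.comm R (Localization.AtPrime Q) K).toRingEquiv
  have h2 : IsRegularRing ((S ⊗[R] K) ⊗[S] (Localization.AtPrime Q)) := IsRegularRing.of_ringEquiv e1.symm
  have : W.LiesOver P := ⟨hWP.symm⟩
  exact isRegularLocalRing_atPrime_of_flat P W

/-- Flatness from the local homomorphisms. -/
theorem flat_of_localRingHom {R S : Type u} [CommRing R] [CommRing S] [Algebra R S]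
    (h : ∀ (q : Ideal S) [q.IsPrime],
      letI := (Localization.localRingHom (Ideal.comap (algebraMap R S) q) q (algebraMap R S) rfl).toAlgebra
      Module.Flat (Localization.AtPrime (Ideal.comap (algebraMap R S) q)) (Localization.AtPrime q)) :
    Module.Flat R S := by
  refine Module.flat_of_isLocalized_maximal (R := R) (S := S) S (fun m _ ↦ Localization.AtPrime m)
    (fun m _ ↦ Algebra.linearMap S (Localization.AtPrime m)) fun Q _ ↦ ?_
  let _ := (Localization.localRingHom (Ideal.comap (algebraMap R S) Q) Q (algebraMap R S) rfl).toAlgebra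
  have htow : IsScalarTower R (Localization.AtPrime (Ideal.comap (algebraMap R S) Q)) (Localization.AtPrime Q) := by
    refine .of_algebraMap_eq fun x ↦ ?_
    show _ = Localization.localRingHom (Ideal.comap (algebraMap R S) Q) Q (algebraMap R S) rfl (algebraMap R _ x)
    rw [Localization.localRingHom_to_map, ← IsScalarTower.algebraMap_apply R S (Localization.AtPrime Q)]
  have h1 := h Q
  have h2 : Module.Flat R (Localization.AtPrime (Ideal.comap (algebraMap R S) Q)) :=
    IsLocalization.flat _ (Ideal.comap (algebraMap R S) Q).primeCompl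
  exact Module.Flat.trans R (Localization.AtPrime (Ideal.comap (algebraMap R S) Q)) (Localization.AtPrime Q)

end K95.RegHomLocal
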