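import Groth.Agent.CAlg.K95.BasicElt
import Mathlib.RingTheory.Spectrum.Prime.FreeLocus
import Mathlib.RingTheory.KrullDimension.Basic
import Mathlib.LinearAlgebra.Pi
import Mathlib.Algebra.Module.Projective

/-!
# Serre's splitting theorem and Bass' cancellation theorem

`R` Noetherian of Krull dimension `≤ d`, `P` finite projective of rank `> d` at every prime.

* `exists_unimodular_add`: if `φ p + b * a = 1` then `p + a • q` is unimodular for some `q`.
* `exists_unimodular`: `P` has a unimodular element.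
* `exists_prod_free`: rank `d + k` implies `P ≃ P₀ × R^k`.
* `cancel_one`, `cancel`: `P × R^m ≃ P' × R^m` implies `P ≃ P'`.
-/

set_option autoImplicit false
universe u v w

namespace K95.SerreBass

open Module TensorProduct K95.BasicElt

variable {R : Type u} [CommRing R]

/-- the coheight function as a strictly decreasing function with values `≤ d`. -/
theorem exists_dimFun (R : Type u) [CommRing R] (d : ℕ) (hdim : ringKrullDim R ≤ d) :
    ∃ δ : PrimeSpectrum R → ℕ, (∀ p q : PrimeSpectrum R, p < q → δ q < δ p) ∧ ∀ p, δ p ≤ d := by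
  have hle : ∀ p : PrimeSpectrum R, Order.coheight p ≤ (d : ℕ∞) := by
    intro p
    have h1 := (Order.coheight_le_krullDim p).trans hdim
    exact_mod_cast h1
  refine ⟨fun p => (Order.coheight p).toNat, fun p q hpq => ?_, fun p => ?_⟩
  · have h1 : Order.coheight q < Order.coheight p :=
      Order.coheight_strictAnti hpq (lt_of_le_of_lt (hle q) (ENat.natCast_lt_top d))
    have h2 : Order.coheight p ≠ ⊤ := ne_top_of_le_ne_top (ENat.natCast_ne_top d) (hle p)
    have h3 : Order.coheight q ≠ ⊤ := ne_top_of_le_ne_top (ENat.natCast_ne_top d) (hle q)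
    rw [← ENat.natCast_toNat h2, ← ENat.natCast_toNat h3] at h1
    exact_mod_cast h1
  · have h2 : Order.coheight p ≠ ⊤ := ne_top_of_le_ne_top (ENat.natCast_ne_top d) (hle p)
    have h1 := hle p
    rw [← ENat.natCast_toNat h2] at h1
    exact_mod_cast h1

/-- The rank of the vectors `a • ι (π e_j)` at a prime not containing `a` is at least the rank of `P`. -/
theorem rankAtStalk_le_rk {P : Type v} [AddCommGroup P] [Module R P] [Module.Finite R P] [Module.Projective R P]
    {N : ℕ} (π : (Fin N → R) →ₗ[R] P) (ι : P →ₗ[R] (Fin N → R)) (hπι : π ∘ₗ ι = LinearMap.id) (a : R)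
    (p : PrimeSpectrum R) (ha : a ∉ p.asIdeal) {u : ℕ} (v : Fin u → Fin N → R)
    (hv : ∀ j : Fin N, ∃ i, v i = a • ι (π (Pi.single j 1))) :
    Module.rankAtStalk (R := R) P p ≤ rk p v := by
  classical
  rw [Module.rankAtStalk_eq]
  let K := p.asIdeal.ResidueField
  let L : (K ⊗[R] P) →ₗ[K] (Fin N → K) := (piScalarRight R K K (Fin N)).toLinearMap ∘ₗ ι.baseChange K
  have hL : Function.Injective L := by
    have h1 : Function.Injective (ι.baseChange K) := by
      have h2 : (π.baseChange K) ∘ₗ (ι.baseChange K) = LinearMap.id := by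
        rw [← LinearMap.baseChange_comp, hπι, LinearMap.baseChange_id]
      intro x y hxy
      have := congrArg (π.baseChange K) hxy
      rw [← LinearMap.comp_apply, ← LinearMap.comp_apply, h2] at this
      exact this
    exact (piScalarRight R K K (Fin N)).injective.comp h1
  have hL1 : ∀ (k : K) (y : P), L (k ⊗ₜ[R] y) = k • red p (ι y) := by
    intro k y
    funext j
    show (piScalarRight R K K (Fin N)) (ι.baseChange K (k ⊗ₜ[R] y)) j = _
    rw [LinearMap.baseChange_tmul, piScalarRight_apply, piScalarRightHom_tmul]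
    simp only [Pi.smul_apply, smul_eq_mul, red]
    rw [Algebra.smul_def, mul_comm]
  have haK : algebraMap R K a ≠ 0 := fun h0 => ha (Ideal.algebraMap_residueField_eq_zero.1 h0)
  have hrange : LinearMap.range L ≤ Submodule.span K (Set.range fun i => red p (v i)) := by
    rintro _ ⟨x, rfl⟩
    induction x with
    | zero => rw [map_zero]; exact Submodule.zero_mem _
    | add x y hx hy => rw [map_add]; exact Submodule.add_mem _ hx hy
    | tmul k y =>
      rw [hL1]
      refine Submodule.smul_mem _ _ ?_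
      have hy : y = ∑ j, (ι y) j • π (Pi.single j 1) := by
        have h1 : y = π (ι y) := by
          rw [← LinearMap.comp_apply, hπι, LinearMap.id_apply]
        have h2 : ∀ i : Fin N, (fun j => if i = j then (1 : R) else 0) = Pi.single i 1 := by
          intro i
          funext j
          rw [Pi.single_apply]
          simp only [eq_comm]
        conv_lhs => rw [h1, LinearMap.pi_apply_eq_sum_univ π (ι y)]
        simp only [h2]
      have hred : red p (ι y) = ∑ j, algebraMap R K ((ι y) j) • red p (ι (π (Pi.single j 1))) := by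
        conv_lhs => rw [hy, map_sum]
        funext l
        simp only [red, map_smul, Finset.sum_apply, Pi.smul_apply, smul_eq_mul, map_sum, map_mul]
        rfl
      rw [hred]
      refine Submodule.sum_mem _ fun j _ => Submodule.smul_mem _ _ ?_
      obtain ⟨i, hi⟩ := hv j
      have h1 : red p (v i) ∈ Submodule.span K (Set.range fun i => red p (v i)) := Submodule.subset_span ⟨i, rfl⟩
      rw [hi, red_smul] at h1
      exact (Submodule.smul_mem_iff _ haK).1 h1
  have h1 : finrank K (K ⊗[R] P) = finrank K (LinearMap.range L) := (LinearMap.finrank_range_of_inj hL).symm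
  show finrank K (K ⊗[R] P) ≤ _
  rw [h1]
  exact Submodule.finrank_mono hrange

/-- Main theorem: unimodular `(p, a)`, rank `> d`: `p + a • q` is unimodular for some `q`. -/
theorem exists_unimodular_add [IsNoetherianRing R] (d : ℕ) (hdim : ringKrullDim R ≤ d)
    (P : Type v) [AddCommGroup P] [Module R P] [Module.Finite R P] [Module.Projective R P]
    (hrk : ∀ p : PrimeSpectrum R, d < Module.rankAtStalk (R := R) P p)
    (x : P) (a : R) (φ : P →ₗ[R] R) (b : R) (h : φ x + b * a = 1) :
    ∃ (q : P) (ψ : P →ₗ[R] R), ψ (x + a • q) = 1 := by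
  classical
  obtain ⟨δ, hδ, hδd⟩ := exists_dimFun R d hdim
  obtain ⟨N, π, hπ⟩ := Module.Finite.exists_fin' R P
  obtain ⟨ι, hι⟩ := Module.projective_lifting_property π LinearMap.id hπ
  let v : Fin (N + 1) → Fin N → R := Fin.cons (ι x) (fun j => a • ι (π (Pi.single j 1)))
  obtain ⟨c, hc0, hc⟩ := exists_basic hδ {p : PrimeSpectrum R | a ∉ p.asIdeal}
    (fun p hp q hqp haq => hp (hqp haq)) v (by
      intro p hp
      have h1 := rankAtStalk_le_rk π ι hι a p hp v (fun j => ⟨j.succ, by simp [v]⟩)
      have h2 := hrk p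
      have h3 := hδd p
      refine (min_le_right _ _).trans ?_
      omega)
  let q : P := ∑ j : Fin N, c j.succ • π (Pi.single j 1)
  have hsum : ∑ i, c i • v i = ι (x + a • q) := by
    rw [Fin.sum_univ_succ, hc0, one_smul]
    simp only [v, Fin.cons_zero, Fin.cons_succ]
    rw [map_add, map_smul, map_sum, Finset.smul_sum]
    congr 1
    refine Finset.sum_congr rfl fun j _ => ?_
    rw [map_smul, smul_comm]
  refine ⟨q, ?_⟩
  let y := x + a • q
  let I : Ideal R := LinearMap.range (LinearMap.applyₗ y : (P →ₗ[R] R) →ₗ[R] R)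
  have hI : ∀ ψ : P →ₗ[R] R, ψ y ∈ I := fun ψ => ⟨ψ, rfl⟩
  have htop : I = ⊤ := by
    by_contra hne
    obtain ⟨m, hm, hle⟩ := Ideal.exists_le_maximal I hne
    by_cases ham : a ∈ m
    · have h1 : φ y ∈ m := hle (hI φ)
      have h2 : φ y = φ x + a * φ q := by
        show φ (x + a • q) = _
        rw [map_add, map_smul, smul_eq_mul]
      have h3 : (1 : R) ∈ m := by
        rw [← h]
        have h4 : φ x + b * a = φ y + (b * a - a * φ q) := by rw [h2]; ring
        rw [h4]
        exact m.add_mem h1 (m.sub_mem (m.mul_mem_left _ ham) (m.mul_mem_right _ ham))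
      exact hm.ne_top ((Ideal.eq_top_iff_one m).2 h3)
    · have h1 := hc ⟨m, hm.isPrime⟩ ham
      rw [hsum] at h1
      apply h1
      rw [red_eq_zero_iff]
      intro j
      exact hle (hI (LinearMap.proj j ∘ₗ ι))
  have h1 : (1 : R) ∈ I := by rw [htop]; trivial
  obtain ⟨ψ, hψ⟩ := h1
  exact ⟨ψ, hψ⟩

/-- Serre: a finite projective module of rank `> dim R` has a unimodular element. -/
theorem exists_unimodular [IsNoetherianRing R] (d : ℕ) (hdim : ringKrullDim R ≤ d)
    (P : Type v) [AddCommGroup P] [Module R P] [Module.Finite R P] [Module.Projective R P]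
    (hrk : ∀ p : PrimeSpectrum R, d < Module.rankAtStalk (R := R) P p) :
    ∃ (y : P) (ψ : P →ₗ[R] R), ψ y = 1 := by
  obtain ⟨q, ψ, h⟩ := exists_unimodular_add d hdim P hrk 0 1 0 1 (by simp)
  exact ⟨0 + (1 : R) • q, ψ, h⟩

/-- The splitting of a module by a unimodular element. -/
noncomputable def splitUnimodular {P : Type v} [AddCommGroup P] [Module R P] (y : P) (ψ : P →ₗ[R] R) (h : ψ y = 1) :
    P ≃ₗ[R] (LinearMap.ker ψ × R) where
  toFun x := (⟨x - ψ x • y, by rw [LinearMap.mem_ker, map_sub, map_smul, h]; simp⟩, ψ x)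
  invFun z := z.1 + z.2 • y
  map_add' x x' := by
    ext
    · simp only [map_add, add_smul, Prod.fst_add, Submodule.coe_add]
      abel
    · simp
  map_smul' c x := by
    ext
    · simp only [map_smul, smul_eq_mul, mul_smul, RingHom.id_apply, Prod.smul_fst, Submodule.coe_smul, smul_sub]
    · simp
  left_inv x := by simp
  right_inv z := by
    have hz : ψ (z.1 : P) = 0 := z.1.2
    ext
    · simp [hz, h]
    · simp [hz, h]

theorem rankAtStalk_prod_free (P : Type v) [AddCommGroup P] [Module R P] [Module.Finite R P] [Module.Projective R P]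
    (m : ℕ) (p : PrimeSpectrum R) :
    Module.rankAtStalk (R := R) (P × (Fin m → R)) p = Module.rankAtStalk (R := R) P p + m := by
  have : Nontrivial R := p.nontrivial
  rw [Module.rankAtStalk_prod, Pi.add_apply, Module.rankAtStalk_eq_finrank_of_free (M := Fin m → R)]
  simp

theorem rankAtStalk_prod_self (P : Type v) [AddCommGroup P] [Module R P] [Module.Finite R P] [Module.Projective R P]
    (p : PrimeSpectrum R) :
    Module.rankAtStalk (R := R) (P × R) p = Module.rankAtStalk (R := R) P p + 1 := by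
  have : Nontrivial R := p.nontrivial
  rw [Module.rankAtStalk_prod, Pi.add_apply, Module.rankAtStalk_self]
  rfl

/-- `R^k × R ≃ R^(k+1)`. -/
def consEquiv (R : Type u) [CommRing R] (k : ℕ) : ((Fin k → R) × R) ≃ₗ[R] (Fin (k + 1) → R) :=
  (LinearEquiv.prodComm R (Fin k → R) R).trans (Fin.consLinearEquiv R (fun _ : Fin (k + 1) => R))

/-- Serre: rank `d + k` implies a free summand of rank `k`. -/
theorem exists_prod_free [IsNoetherianRing R] (d : ℕ) (hdim : ringKrullDim R ≤ d) (k : ℕ)
    (P : Type v) [AddCommGroup P] [Module R P] [Module.Finite R P] [Module.Projective R P]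
    (hrk : ∀ p : PrimeSpectrum R, Module.rankAtStalk (R := R) P p = d + k) :
    ∃ (P₀ : Type v) (_ : AddCommGroup P₀) (_ : Module R P₀), Module.Finite R P₀ ∧ Module.Projective R P₀ ∧
      Nonempty (P ≃ₗ[R] (P₀ × (Fin k → R))) := by
  induction k generalizing P with
  | zero =>
    refine ⟨P, inferInstance, inferInstance, inferInstance, inferInstance, ⟨?_⟩⟩
    exact LinearEquiv.prodUnique.symm
  | succ k ih =>
    obtain ⟨y, ψ, h⟩ := exists_unimodular d hdim P (fun p => by rw [hrk p]; omega)
    let e := splitUnimodular y ψ h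
    have hproj : Module.Projective R (LinearMap.ker ψ) :=
      Module.Projective.of_split (e.symm.toLinearMap ∘ₗ LinearMap.inl R _ _) (LinearMap.fst R _ _ ∘ₗ e.toLinearMap) (by
        ext z; simp)
    have hfin : Module.Finite R (LinearMap.ker ψ) :=
      Module.Finite.of_surjective (LinearMap.fst R (LinearMap.ker ψ) R ∘ₗ e.toLinearMap) (fun z => by
        obtain ⟨x, hx⟩ := e.surjective (z, 0)
        exact ⟨x, by rw [LinearMap.comp_apply]; show (e x).1 = z; rw [hx]⟩)
    obtain ⟨P₀, _, _, hf, hp, ⟨e'⟩⟩ := ih (LinearMap.ker ψ) (fun p => by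
      have h1 := hrk p
      rw [Module.rankAtStalk_eq_of_equiv e, rankAtStalk_prod_self] at h1
      omega)
    refine ⟨P₀, inferInstance, inferInstance, hf, hp, ⟨?_⟩⟩
    exact e.trans ((e'.prodCongr (LinearEquiv.refl R R)).trans ((LinearEquiv.prodAssoc R P₀ (Fin k → R) R).trans
      ((LinearEquiv.refl R P₀).prodCongr (consEquiv R k))))

/-- An isomorphism `M × R ≃ N × R` fixing `(0, 1)` gives `M ≃ N`. -/
noncomputable def equivOfFix {M : Type v} {N : Type w} [AddCommGroup M] [Module R M] [AddCommGroup N] [Module R N]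
    (f : (M × R) ≃ₗ[R] (N × R)) (hf : f (0, 1) = (0, 1)) : M ≃ₗ[R] N :=
  have hf' : f.symm (0, 1) = (0, 1) := by rw [LinearEquiv.symm_apply_eq, hf]
  LinearEquiv.ofLinearMap (LinearMap.fst R N R ∘ₗ f.toLinearMap ∘ₗ LinearMap.inl R M R)
    (LinearMap.fst R M R ∘ₗ f.symm.toLinearMap ∘ₗ LinearMap.inl R N R)
    (by
      ext y
      show (f ((f.symm (y, 0)).1, 0)).1 = y
      have h1 : ((f.symm (y, 0)).1, (0 : R)) = f.symm (y, 0) - (f.symm (y, 0)).2 • ((0, 1) : M × R) := by
        ext <;> simp
      rw [h1, map_sub, map_smul, hf, LinearEquiv.apply_symm_apply]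
      simp)
    (by
      ext x
      show (f.symm ((f (x, 0)).1, 0)).1 = x
      have h1 : ((f (x, 0)).1, (0 : R)) = f (x, 0) - (f (x, 0)).2 • ((0, 1) : N × R) := by
        ext <;> simp
      rw [h1, map_sub, map_smul, hf', LinearEquiv.symm_apply_apply]
      simp)

/-- Shear `(x, r) ↦ (x + r • q, r)`. -/
noncomputable def shearLeft (P : Type v) [AddCommGroup P] [Module R P] (q : P) : (P × R) ≃ₗ[R] (P × R) where
  toFun z := (z.1 + z.2 • q, z.2)
  invFun z := (z.1 - z.2 • q, z.2)
  map_add' z z' := by ext <;> simp [add_smul]; abel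
  map_smul' c z := by ext <;> simp [mul_smul]
  left_inv z := by ext <;> simp
  right_inv z := by ext <;> simp

/-- Shear `(x, r) ↦ (x, r + ψ x)`. -/
noncomputable def shearRight (P : Type v) [AddCommGroup P] [Module R P] (ψ : P →ₗ[R] R) : (P × R) ≃ₗ[R] (P × R) where
  toFun z := (z.1, z.2 + ψ z.1)
  invFun z := (z.1, z.2 - ψ z.1)
  map_add' z z' := by ext <;> simp; abel
  map_smul' c z := by ext <;> simp [mul_add]
  left_inv z := by ext <;> simp
  right_inv z := by ext <;> simp

/-- Bass cancellation, one copy. -/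
theorem cancel_one [IsNoetherianRing R] (d : ℕ) (hdim : ringKrullDim R ≤ d)
    (P : Type v) [AddCommGroup P] [Module R P] [Module.Finite R P] [Module.Projective R P]
    (P' : Type w) [AddCommGroup P'] [Module R P']
    (hrk : ∀ p : PrimeSpectrum R, d < Module.rankAtStalk (R := R) P p)
    (e : (P × R) ≃ₗ[R] (P' × R)) : Nonempty (P ≃ₗ[R] P') := by
  let χ : (P × R) →ₗ[R] R := LinearMap.snd R P' R ∘ₗ e.toLinearMap
  let z := e.symm (0, 1)
  have hχz : χ z = 1 := by
    show (e (e.symm (0, 1))).2 = 1
    rw [LinearEquiv.apply_symm_apply]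
  let φ : P →ₗ[R] R := χ ∘ₗ LinearMap.inl R P R
  have hφ : φ z.1 + χ (0, 1) * z.2 = 1 := by
    have h1 : z = (z.1, 0) + z.2 • ((0, 1) : P × R) := by ext <;> simp
    have h2 : χ z = φ z.1 + χ (0, 1) * z.2 := by
      conv_lhs => rw [h1, map_add, map_smul, smul_eq_mul, mul_comm]
      rfl
    rw [← h2, hχz]
  obtain ⟨q, ψ, hψ⟩ := exists_unimodular_add d hdim P hrk z.1 z.2 φ (χ (0, 1)) hφ
  let y := z.1 + z.2 • q
  let T : (P × R) ≃ₗ[R] (P × R) :=
    (shearLeft P q).trans ((shearRight P ((1 - z.2) • ψ)).trans (shearLeft P (-y)))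
  have hT : T z = (0, 1) := by
    show (shearLeft P (-y)) ((shearRight P ((1 - z.2) • ψ)) ((shearLeft P q) z)) = _
    have h1 : (shearLeft P q) z = (y, z.2) := rfl
    have h2 : (shearRight P ((1 - z.2) • ψ)) (y, z.2) = (y, 1) := by
      show (y, z.2 + ((1 - z.2) • ψ) y) = (y, 1)
      rw [LinearMap.smul_apply, hψ]
      simp
    rw [h1, h2]
    show (y + (1 : R) • (-y), (1 : R)) = (0, 1)
    rw [one_smul, add_neg_cancel]
  exact ⟨(equivOfFix (e.symm.trans T) (by rw [LinearEquiv.trans_apply]; exact hT)).symm⟩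

/-- Bass cancellation. -/
theorem cancel [IsNoetherianRing R] (d : ℕ) (hdim : ringKrullDim R ≤ d)
    (P : Type v) [AddCommGroup P] [Module R P] [Module.Finite R P] [Module.Projective R P]
    (P' : Type w) [AddCommGroup P'] [Module R P']
    (hrk : ∀ p : PrimeSpectrum R, d < Module.rankAtStalk (R := R) P p)
    (m : ℕ) (e : (P × (Fin m → R)) ≃ₗ[R] (P' × (Fin m → R))) : Nonempty (P ≃ₗ[R] P') := by
  induction m with
  | zero => exact ⟨LinearEquiv.prodUnique.symm.trans (e.trans LinearEquiv.prodUnique)⟩
  | succ m ih =>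
    let c : (P × (Fin (m + 1) → R)) ≃ₗ[R] ((P × (Fin m → R)) × R) :=
      ((LinearEquiv.refl R P).prodCongr (consEquiv R m).symm).trans (LinearEquiv.prodAssoc R P (Fin m → R) R).symm
    let c' : (P' × (Fin (m + 1) → R)) ≃ₗ[R] ((P' × (Fin m → R)) × R) :=
      ((LinearEquiv.refl R P').prodCongr (consEquiv R m).symm).trans (LinearEquiv.prodAssoc R P' (Fin m → R) R).symm
    obtain ⟨e'⟩ := cancel_one d hdim (P × (Fin m → R)) (P' × (Fin m → R)) (fun p => by
      rw [rankAtStalk_prod_free]
      have := hrk p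
      omega) (c.symm.trans (e.trans c'))
    exact ih e'

end K95.SerreBass
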