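import Mathlib.RingTheory.FiniteType
import Mathlib.RingTheory.Polynomial.Basic
import Mathlib.Algebra.MvPolynomial.CommRing

/-!
# Ring maps out of finitely generated rings factor through a stage of a directed colimit

`exists_stage`: the colimit is given by jointly surjective compatible maps whose kernels die further along the
system; no functoriality of the transition maps is used.
-/

set_option autoImplicit false
universe u v w

namespace K95.StageHom

variable {ι : Type u} [Preorder ι] [IsDirected ι (· ≤ ·)] [Nonempty ι]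
    (G : ι → Type v) [∀ i, CommRing (G i)] (f : ∀ i j, i ≤ j → (G i →+* G j))
    (A : Type w) [CommRing A] (g : ∀ i, G i →+* A) (hg : ∀ i j (h : i ≤ j), (g j).comp (f i j h) = g i)
    (hsurj : ∀ a : A, ∃ i, ∃ x : G i, g i x = a)
    (hker : ∀ i (x : G i), g i x = 0 → ∃ j, ∃ h : i ≤ j, f i j h x = 0)

include hg hsurj hker in
theorem exists_stage_mvPolynomial {n : ℕ} (q : MvPolynomial (Fin n) ℤ →+* A) (T : Finset (MvPolynomial (Fin n) ℤ))
    (hT : ∀ t ∈ T, q t = 0) :
    ∃ (i : ι) (w : MvPolynomial (Fin n) ℤ →+* G i), (g i).comp w = q ∧ ∀ t ∈ T, w t = 0 := by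
  classical
  induction T using Finset.induction_on with
  | empty =>
    choose i y hy using fun j : Fin n => hsurj (q (MvPolynomial.X j))
    obtain ⟨i0, hi0⟩ := Finset.exists_le (Finset.univ.image i)
    have hle : ∀ j, i j ≤ i0 := fun j => hi0 _ (Finset.mem_image_of_mem _ (Finset.mem_univ j))
    refine ⟨i0, MvPolynomial.eval₂Hom (Int.castRingHom (G i0)) (fun j => f (i j) i0 (hle j) (y j)), ?_, by simp⟩
    apply MvPolynomial.ringHom_ext
    · intro r
      simp
    · intro j
      rw [RingHom.comp_apply, MvPolynomial.eval₂Hom_X', ← RingHom.comp_apply, hg, hy]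
  | insert t T ht ih =>
    obtain ⟨i, w, hw, hwT⟩ := ih (fun s hs => hT s (Finset.mem_insert_of_mem hs))
    have h0 : g i (w t) = 0 := by
      rw [← RingHom.comp_apply, hw]
      exact hT t (Finset.mem_insert_self _ _)
    obtain ⟨j, hij, hj⟩ := hker i (w t) h0
    refine ⟨j, (f i j hij).comp w, ?_, ?_⟩
    · rw [← RingHom.comp_assoc, hg, hw]
    · intro s hs
      rcases Finset.mem_insert.1 hs with rfl | hs
      · exact hj
      · rw [RingHom.comp_apply, hwT s hs, map_zero]

include hg hsurj hker in
theorem exists_stage (A₀ : Type*) [CommRing A₀] [Algebra.FiniteType ℤ A₀] (q : A₀ →+* A) :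
    ∃ (i : ι) (v : A₀ →+* G i), (g i).comp v = q := by
  obtain ⟨n, p0, hp0⟩ := Algebra.FiniteType.iff_quotient_mvPolynomial''.1 (inferInstance : Algebra.FiniteType ℤ A₀)
  obtain ⟨p, hp⟩ : ∃ p : MvPolynomial (Fin n) ℤ →+* A₀, Function.Surjective p := ⟨p0.toRingHom, hp0⟩
  obtain ⟨T, hT⟩ := IsNoetherian.noetherian (RingHom.ker p)
  obtain ⟨i, w, hw, hwT⟩ := exists_stage_mvPolynomial G f A g hg hsurj hker
    (q.comp p) T (by
      intro t ht
      have : t ∈ RingHom.ker p := by
        rw [← hT]; exact Submodule.subset_span ht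
      rw [RingHom.comp_apply, (RingHom.mem_ker).1 this, map_zero])
  have hle : RingHom.ker p ≤ RingHom.ker w := by
    rw [← hT, Submodule.span_le]
    intro t ht
    exact hwT t ht
  refine ⟨i, RingHom.liftOfSurjective p hp ⟨w, hle⟩, ?_⟩
  rw [← RingHom.cancel_right (f := p) hp, RingHom.comp_assoc, RingHom.liftOfSurjective_comp]
  exact hw

end K95.StageHom
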