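import Mathlib.RingTheory.Filtration
import Mathlib.GroupTheory.OrderOfElement
import Mathlib.Algebra.Ring.Action.Basic

/-!
# Tame group actions on Noetherian local rings

`eq_self_of_tame`: `A` a Noetherian local ring, `g` an element of a finite group acting on `A` by ring
automorphisms, `g` trivial on the residue field and on `𝔪/𝔪²`, the order of the group invertible in `A`: then `g`
acts trivially on `A`.
-/

set_option autoImplicit false
universe u v

open IsLocalRing

namespace K95.Tame

variable {A : Type u} [CommRing A] [IsLocalRing A] {G : Type v} [Group G] [MulSemiringAction G A]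

theorem smul_mem_pow (g : G) (j : ℕ) {a : A} (ha : a ∈ maximalIdeal A ^ j) : g • a ∈ maximalIdeal A ^ j := by
  have h1 : Ideal.map (MulSemiringAction.toRingHom G A g) (maximalIdeal A) ≤ maximalIdeal A := by
    rw [Ideal.map_le_iff_le_comap]
    intro x hx
    rw [Ideal.mem_comap, mem_maximalIdeal, mem_nonunits_iff]
    intro hu
    apply (mem_maximalIdeal x).1 hx
    have h2 : IsUnit (g⁻¹ • (g • x)) := hu.map (MulSemiringAction.toRingHom G A g⁻¹)
    rwa [inv_smul_smul] at h2
  have h2 := Ideal.mem_map_of_mem (MulSemiringAction.toRingHom G A g) ha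
  rw [Ideal.map_pow] at h2
  exact Ideal.pow_right_mono h1 j h2

/-- If `g` is trivial on `𝔪/𝔪²` then it is trivial on `𝔪^(j+1)/𝔪^(j+2)`. -/
theorem sub_mem_pow_succ (g : G) (h1 : ∀ a ∈ maximalIdeal A, g • a - a ∈ maximalIdeal A ^ 2) (j : ℕ)
    {a : A} (ha : a ∈ maximalIdeal A ^ (j + 1)) : g • a - a ∈ maximalIdeal A ^ (j + 2) := by
  induction j generalizing a with
  | zero => exact h1 a (by simpa using ha)
  | succ j ih =>
    rw [pow_succ'] at ha
    refine Submodule.mul_induction_on ha ?_ ?_
    · intro p hp q hq
      have e : g • (p * q) - p * q = (g • p - p) * (g • q) + p * (g • q - q) := by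
        rw [smul_mul']; ring
      rw [e]
      refine Ideal.add_mem _ ?_ ?_
      · have := Ideal.mul_mem_mul (h1 p hp) (smul_mem_pow g (j + 1) hq)
        rwa [← pow_add, show 2 + (j + 1) = j + 1 + 2 by ring] at this
      · have := Ideal.mul_mem_mul hp (ih hq)
        rwa [← pow_succ'] at this
    · intro x y hx hy
      rw [smul_add, add_sub_add_comm]
      exact Ideal.add_mem _ hx hy

variable [IsNoetherianRing A]

/-- A tame automorphism trivial on `A/𝔪` and `𝔪/𝔪²` is trivial. -/
theorem eq_self_of_tame [Finite G] (g : G) (hcard : IsUnit ((Nat.card G : ℕ) : A))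
    (h0 : ∀ a : A, g • a - a ∈ maximalIdeal A)
    (h1 : ∀ a ∈ maximalIdeal A, g • a - a ∈ maximalIdeal A ^ 2) (a : A) : g • a = a := by
  have key : ∀ j : ℕ, ∀ a : A, g • a - a ∈ maximalIdeal A ^ (j + 1) := by
    intro j
    induction j with
    | zero => intro a; simpa using h0 a
    | succ j ih =>
      intro a
      have hd := ih a
      have hd' := sub_mem_pow_succ g h1 j hd
      have hi : ∀ i : ℕ, g ^ i • a - a - (i : A) * (g • a - a) ∈ maximalIdeal A ^ (j + 2) := by
        intro i
        induction i with
        | zero => simp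
        | succ i ihi =>
          have h3 := smul_mem_pow g (j + 2) ihi
          have e1 : g • (g ^ i • a - a - (i : A) * (g • a - a)) =
              g ^ (i + 1) • a - g • a - (i : A) * (g • (g • a - a)) := by
            rw [smul_sub, smul_sub, smul_mul', pow_succ', mul_smul]
            rw [show g • (i : A) = i from map_natCast (MulSemiringAction.toRingHom G A g) i]
          rw [e1] at h3
          have e2 : g ^ (i + 1) • a - a - ((i + 1 : ℕ) : A) * (g • a - a) =
              (g ^ (i + 1) • a - g • a - (i : A) * (g • (g • a - a))) +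
                (i : A) * (g • (g • a - a) - (g • a - a)) := by
            push_cast
            ring
          rw [e2]
          exact Ideal.add_mem _ h3 (Ideal.mul_mem_left _ _ hd')
      have h4 := hi (Nat.card G)
      rw [pow_card_eq_one', one_smul, sub_self, zero_sub, neg_mem_iff] at h4
      exact (Ideal.unit_mul_mem_iff_mem _ hcard).1 h4
  have h5 : g • a - a ∈ (⊥ : Ideal A) := by
    rw [← Ideal.iInf_pow_eq_bot_of_isLocalRing (maximalIdeal A) (maximalIdeal.isMaximal A).ne_top, Ideal.mem_iInf]
    intro j
    exact Ideal.pow_le_pow_right (Nat.le_succ j) (key j a)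
  exact sub_eq_zero.1 (by simpa using h5)

end K95.Tame
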